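import Mathlib.Algebra.Lie.Basis.Base
import Mathlib.Algebra.Lie.CartanCriterion
import Mathlib.Algebra.Lie.Semisimple.Defs
import Mathlib.FieldTheory.IsAlgClosed.Basic

/-!
# Root strings through the highest root of a simple Lie algebra with a Chevalley-type basis
-/

set_option autoImplicit false
universe u v w
open LieAlgebra LieModule

namespace K927.AdjVar

variable {ι : Type u} {K : Type v} {L : Type w} [Fintype ι] [Field K] [CharZero K]
    [IsAlgClosed K] [LieRing L] [LieAlgebra K L] [FiniteDimensional K L] [LieAlgebra.IsSimple K L]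
    {H : LieSubalgebra K L} [H.IsCartanSubalgebra] (b : LieAlgebra.Basis ι H)

set_option linter.unusedSectionVars false

/-- The simple root as a weight. -/
noncomputable def aw (i : ι) : Weight K H L := (b.baseSupp' i).val

theorem coe_aw (i : ι) : ((aw b i : Weight K H L) : H → K) = b.baseSupp i := rfl

theorem aw_isNonZero (i : ι) : (aw b i).IsNonZero := LieSubalgebra.isNonZero_coe_root _

theorem coroot_aw (i : ι) : IsKilling.coroot (aw b i) = b.h' i := b.coroot_eq_h' i

/-- Root strings in the direction of a simple root. -/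
theorem exists_string (i : ι) (β : H → K) (hβ : rootSpace H β ≠ ⊥) :
    ∃ p q : ℕ, β (b.h' i) = ((p : ℤ) - q : ℤ) ∧
      ∀ n : ℤ, rootSpace H (β + n • ⇑(b.baseSupp i)) ≠ ⊥ ↔ (n ≤ q ∧ -n ≤ p) := by
  let βw : Weight K H L := ⟨β, hβ⟩
  refine ⟨chainBotCoeff (aw b i) βw, chainTopCoeff (aw b i) βw, ?_, fun n => ?_⟩
  · have h := IsKilling.apply_coroot_eq_cast (aw b i) βw
    rw [coroot_aw] at h
    exact_mod_cast h
  · have h := IsKilling.rootSpace_zsmul_add_ne_bot_iff (aw b i) βw (aw_isNonZero b i) n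
    rw [← h]
    have h2 : β + n • ⇑(b.baseSupp i) = n • (aw b i : H → K) + (βw : H → K) := by
      rw [add_comm, coe_aw]
      rfl
    rw [h2]

theorem A_self (i : ι) : b.A i i = 2 := by
  have _i : IsAddTorsionFree L := .of_isTorsionFree K L
  exact b.A_diag_eq_two i

theorem A_le_zero {i j : ι} (hij : i ≠ j) : b.A i j ≤ 0 := by
  have h := b.cartanMatrix_base_eq
  have h2 := congrFun (congrFun h (b.baseSupportEquiv i)) (b.baseSupportEquiv j)
  simp only [Matrix.reindex_apply, Matrix.submatrix_apply, Equiv.symm_apply_apply] at h2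
  rw [← h2]
  exact b.base.cartanMatrix_le_zero_of_ne _ _ (fun h3 => hij (b.baseSupportEquiv.injective h3))

theorem A_eq_zero_iff {i j : ι} : b.A i j = 0 ↔ b.A j i = 0 := by
  have h := b.cartanMatrix_base_eq
  have h2 : ∀ i j, b.base.cartanMatrix (b.baseSupportEquiv i) (b.baseSupportEquiv j) = b.A i j := by
    intro i j
    have h2 := congrFun (congrFun h (b.baseSupportEquiv i)) (b.baseSupportEquiv j)
    simpa only [Matrix.reindex_apply, Matrix.submatrix_apply, Equiv.symm_apply_apply] using h2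
  rw [← h2, ← h2]
  exact b.base.cartanMatrix_apply_eq_zero_iff_symm

/-! ### Strings through the highest root -/

section Top

variable {b} {ρ : Module.Dual K H} (hρ : rootSpace H ρ ≠ ⊥)
  (htop : ∀ i, rootSpace H (⇑ρ + ⇑(b.baseSupp i)) = ⊥)
  {j : ι} (hN : ∀ i, ρ (b.h' i) ≠ 0 ↔ i = j) (hj : ρ (b.h' j) = 1)

include hρ htop hN

/-- `ρ - α_i` is not a root for `i ≠ j`. -/
theorem sub_eq_bot {i : ι} (hij : i ≠ j) : rootSpace H (⇑ρ - ⇑(b.baseSupp i)) = ⊥ := by
  obtain ⟨p, q, h1, h2⟩ := exists_string b i ρ hρ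
  have h3 : ρ (b.h' i) = 0 := by
    by_contra h
    exact hij ((hN i).1 h)
  have hq : q = 0 := by
    have h4 := (h2 1).2.mt (by rw [one_smul, not_not]; exact htop i)
    omega
  have hp : p = 0 := by
    rw [h3, hq] at h1
    exact_mod_cast (show (p : K) = 0 by simpa using h1.symm)
  have h5 := (h2 (-1)).1.mt (by omega)
  rw [not_not, neg_smul, one_smul, ← sub_eq_add_neg] at h5
  exact h5

include hj

omit hN in
theorem string_j : ∀ n : ℤ, rootSpace H (⇑ρ + n • ⇑(b.baseSupp j)) ≠ ⊥ ↔ (n ≤ 0 ∧ -n ≤ 1) := by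
  obtain ⟨p, q, h1, h2⟩ := exists_string b j ρ hρ
  have hq : q = 0 := by
    have h4 := (h2 1).2.mt (by rw [one_smul, not_not]; exact htop j)
    omega
  have hp : p = 1 := by
    rw [hj, hq] at h1
    exact_mod_cast (show (p : K) = 1 by simpa using h1.symm)
  subst hq hp
  exact_mod_cast h2

omit hN in
/-- `ρ - α_j` is a root. -/
theorem sub_j_ne_bot : rootSpace H (⇑ρ - ⇑(b.baseSupp j)) ≠ ⊥ := by
  have h := (string_j hρ htop hj (-1)).2 (by omega)
  rwa [neg_smul, one_smul, ← sub_eq_add_neg] at h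

omit hN in
/-- `ρ - 2 α_j` is not a root. -/
theorem sub_j_j_eq_bot : rootSpace H (⇑ρ - ⇑(b.baseSupp j) - ⇑(b.baseSupp j)) = ⊥ := by
  have h := (string_j hρ htop hj (-2)).1.mt (by omega)
  rw [not_not] at h
  rw [← h]
  congr 1
  ext x
  simp only [Pi.sub_apply, Pi.add_apply, Pi.smul_apply]
  simp
  ring

omit hN in
/-- `ρ - α_j + α_i` is not a root for `i ≠ j`. -/
theorem sub_add_eq_bot {i : ι} (hij : i ≠ j) :
    rootSpace H (⇑ρ - ⇑(b.baseSupp j) + ⇑(b.baseSupp i)) = ⊥ := by
  by_contra h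
  obtain ⟨p, q, h1, h2⟩ := exists_string b j _ h
  have h3 : (⇑ρ - ⇑(b.baseSupp j) + ⇑(b.baseSupp i)) (b.h' j) = ((b.A i j - 1 : ℤ) : K) := by
    simp [hj, A_self b j]
    ring
  rw [h3] at h1
  have h4 : b.A i j - 1 = (p : ℤ) - q := by exact_mod_cast h1
  have h5 := A_le_zero b hij
  have h6 := (h2 1).2 (by omega)
  apply h6
  rw [← htop i, one_smul]
  congr 1
  ext x
  simp only [Pi.sub_apply, Pi.add_apply]
  ring

/-- `ρ - α_j - α_i` is not a root when `i` is not adjacent to `j`. -/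
theorem sub_sub_eq_bot {i : ι} (hij : i ≠ j) (hA : b.A i j = 0) :
    rootSpace H (⇑ρ - ⇑(b.baseSupp j) - ⇑(b.baseSupp i)) = ⊥ := by
  obtain ⟨p, q, h1, h2⟩ := exists_string b i _ (sub_j_ne_bot hρ htop hj)
  have h3 : ρ (b.h' i) = 0 := by
    by_contra h
    exact hij ((hN i).1 h)
  have hA' : b.A j i = 0 := (A_eq_zero_iff b).1 hA
  have hq : q = 0 := by
    have h4 := (h2 1).2.mt (by rw [one_smul, not_not]; exact sub_add_eq_bot hρ htop hj hij)
    omega
  have hp : p = 0 := by
    have h4 : (⇑ρ - ⇑(b.baseSupp j)) (b.h' i) = 0 := by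
      simp [h3, hA']
    rw [h4, hq] at h1
    exact_mod_cast (show (p : K) = 0 by simpa using h1.symm)
  have h5 := (h2 (-1)).1.mt (by omega)
  rw [not_not, neg_smul, one_smul, ← sub_eq_add_neg] at h5
  exact h5

end Top

/-! ### Uniqueness of the highest weight -/

section Highest

open scoped Classical in
/-- The words in the `f_i` applied to `v`, with their content. -/
inductive Word (v : L) : L → (ι → ℕ) → Prop
  | base : Word v v 0
  | step (i : ι) (x : L) (n : ι → ℕ) (h : Word v x n) : Word v ⁅b.f i, x⁆ (n + Pi.single i 1)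

/-- The weight `μ - ∑ n_i α_i`. -/
noncomputable def wt (μ : Module.Dual K H) (n : ι → ℕ) : Module.Dual K H := μ - ∑ i, n i • b.baseSupp i

theorem wt_zero (μ : Module.Dual K H) : wt b μ 0 = μ := by simp [wt]

open scoped Classical in
theorem wt_add_single (μ : Module.Dual K H) (n : ι → ℕ) (i : ι) :
    wt b μ (n + Pi.single i 1) = wt b μ n - b.baseSupp i := by
  have h3 : ∑ x, (Pi.single i 1 : ι → ℕ) x • b.baseSupp x = b.baseSupp i := by
    rw [Finset.sum_eq_single i]
    · simp
    · intro k _ hk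
      simp [Pi.single_eq_of_ne hk]
    · simp
  simp only [wt, Pi.add_apply, add_smul, Finset.sum_add_distrib]
  rw [h3]
  abel

theorem e_mem (i : ι) : b.e i ∈ rootSpace H (b.baseSupp i) :=
  (mem_genWeightSpace _ _ _).mpr fun _ ↦ ⟨1, by simp⟩

theorem f_mem (i : ι) : b.f i ∈ rootSpace H (-⇑(b.baseSupp i)) :=
  (mem_genWeightSpace _ _ _).mpr fun _ ↦ ⟨1, by simp [← eq_neg_iff_add_eq_zero]⟩

theorem word_mem {v : L} {μ : Module.Dual K H} (hv : v ∈ rootSpace H μ) {x : L} {n : ι → ℕ}
    (h : Word b v x n) : x ∈ rootSpace H (wt b μ n) := by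
  classical
  induction h with
  | base => rwa [wt_zero]
  | step i x n h ih =>
    have h1 := lie_mem_genWeightSpace_of_mem_genWeightSpace (f_mem b i) ih
    have h2 : (-⇑(b.baseSupp i) + ⇑(wt b μ n) : H → K) = wt b μ (n + Pi.single i 1) := by
      ext y
      rw [wt_add_single]
      simp
      ring
    rwa [h2] at h1

/-- The span of the words. -/
def wspan (v : L) : Submodule K L := Submodule.span K {x | ∃ n, Word b v x n}

theorem h_word {v : L} {μ : Module.Dual K H} (hv : v ∈ rootSpace H μ) {x : L} {n : ι → ℕ}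
    (h : Word b v x n) (i : ι) : ⁅b.h i, x⁆ = wt b μ n (b.h' i) • x :=
  IsKilling.lie_eq_smul_of_mem_rootSpace (word_mem b hv h) (b.h' i)

theorem f_wspan {v x : L} (hx : x ∈ wspan b v) (i : ι) : ⁅b.f i, x⁆ ∈ wspan b v := by
  classical
  induction hx using Submodule.span_induction with
  | mem x hx =>
    obtain ⟨n, hn⟩ := hx
    exact Submodule.subset_span ⟨_, Word.step i x n hn⟩
  | zero => rw [lie_zero]; exact zero_mem _
  | add x y _ _ hx hy => rw [lie_add]; exact add_mem hx hy
  | smul c x _ hx => rw [lie_smul]; exact Submodule.smul_mem _ _ hx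

theorem e_word {v : L} {μ : Module.Dual K H} (hv : v ∈ rootSpace H μ) (he : ∀ i, ⁅b.e i, v⁆ = 0)
    {x : L} {n : ι → ℕ} (h : Word b v x n) (i : ι) : ⁅b.e i, x⁆ ∈ wspan b v := by
  classical
  induction h with
  | base => rw [he]; exact zero_mem _
  | step k x n h ih =>
    rw [leibniz_lie]
    refine add_mem ?_ (f_wspan b ih k)
    by_cases hik : i = k
    · subst hik
      rw [(b.sl2 i).lie_e_f, h_word b hv h]
      exact Submodule.smul_mem _ _ (Submodule.subset_span ⟨n, h⟩)
    · rw [b.lie_e_f_ne i k hik, zero_lie]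
      exact zero_mem _

theorem e_wspan {v : L} {μ : Module.Dual K H} (hv : v ∈ rootSpace H μ) (he : ∀ i, ⁅b.e i, v⁆ = 0)
    {x : L} (hx : x ∈ wspan b v) (i : ι) : ⁅b.e i, x⁆ ∈ wspan b v := by
  induction hx using Submodule.span_induction with
  | mem x hx =>
    obtain ⟨n, hn⟩ := hx
    exact e_word b hv he hn i
  | zero => rw [lie_zero]; exact zero_mem _
  | add x y _ _ hx hy => rw [lie_add]; exact add_mem hx hy
  | smul c x _ hx => rw [lie_smul]; exact Submodule.smul_mem _ _ hx

/-- A submodule stable under all `e_i` and `f_i` and nonzero is everything. -/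
theorem eq_top_of_stable (S : Submodule K L) (he : ∀ i, ∀ x ∈ S, ⁅b.e i, x⁆ ∈ S)
    (hf : ∀ i, ∀ x ∈ S, ⁅b.f i, x⁆ ∈ S) {v : L} (hv : v ∈ S) (hv0 : v ≠ 0) : S = ⊤ := by
  have hst : ∀ y : L, ∀ x ∈ S, ⁅y, x⁆ ∈ S := by
    intro y
    have hy : y ∈ LieSubalgebra.lieSpan K L (Set.range b.e ∪ Set.range b.f) := by
      rw [b.span_ef]; trivial
    induction hy using LieSubalgebra.lieSpan_induction with
    | mem u hu =>
      rcases hu with ⟨i, rfl⟩ | ⟨i, rfl⟩
      · exact he i
      · exact hf i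
    | zero => intro x _; rw [zero_lie]; exact zero_mem _
    | add u v _ _ hu hv => intro x hx; rw [add_lie]; exact add_mem (hu x hx) (hv x hx)
    | smul t u _ hu => intro x hx; rw [smul_lie]; exact Submodule.smul_mem _ _ (hu x hx)
    | lie u v _ _ hu hv =>
      intro x hx
      rw [lie_lie]
      exact sub_mem (hu _ (hv x hx)) (hv _ (hu x hx))
  let I : LieIdeal K L := { S with lie_mem := fun {x m} hm => hst x m hm }
  rcases IsSimple.eq_bot_or_eq_top I with h | h
  · exfalso
    have h1 : v ∈ I := hv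
    rw [h] at h1
    exact hv0 h1
  · have h1 := congrArg LieSubmodule.toSubmodule h
    exact h1

/-- All weights lie below the weight of a vector killed by all `e_i`. -/
theorem exists_content {v : L} {μ : Module.Dual K H} (hv : v ∈ rootSpace H μ) (he : ∀ i, ⁅b.e i, v⁆ = 0)
    (hv0 : v ≠ 0) (χ : H → K) (hχ : rootSpace H χ ≠ ⊥) : ∃ n : ι → ℕ, χ = wt b μ n := by
  let s : Set (H → K) := {χ | ∃ n : ι → ℕ, χ = wt b μ n}
  have h1 : wspan b v = ⊤ := eq_top_of_stable b _ (fun i x hx => e_wspan b hv he hx i)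
    (fun i x hx => f_wspan b hx i) (Submodule.subset_span ⟨0, Word.base⟩) hv0
  have h2 : ⨆ α ∈ s, rootSpace H α = ⊤ := by
    rw [eq_top_iff]
    intro x _
    have hx : x ∈ wspan b v := by rw [h1]; trivial
    induction hx using Submodule.span_induction with
    | mem x hx =>
      obtain ⟨n, hn⟩ := hx
      have h3 : rootSpace H (wt b μ n) ≤ ⨆ α ∈ s, rootSpace H α :=
        le_biSup (fun α => rootSpace H α) (show ⇑(wt b μ n) ∈ s from ⟨n, rfl⟩)
      exact h3 (word_mem b hv hn)
    | zero => exact zero_mem _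
    | add x y _ _ hx hy => exact add_mem (hx trivial) (hy trivial)
    | smul c x _ hx => exact SMulMemClass.smul_mem c (hx trivial)
  exact (iSupIndep_genWeightSpace K H L).mem_of_biSup_eq_top h2 hχ

theorem eq_zero_of_sum_eq_zero (n : ι → ℕ) (h : ∑ i, n i • b.baseSupp i = 0) : n = 0 := by
  have := Fintype.linearIndependent_iff.mp b.linearIndependent_baseSupp ((↑) ∘ n)
    (by simpa [Nat.cast_smul_eq_nsmul])
  exact funext fun i ↦ by simpa using this i

/-- Uniqueness of the highest weight. -/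
theorem eq_of_highest {v v' : L} {μ μ' : Module.Dual K H} (hv : v ∈ rootSpace H μ) (he : ∀ i, ⁅b.e i, v⁆ = 0)
    (hv0 : v ≠ 0) (hv' : v' ∈ rootSpace H μ') (he' : ∀ i, ⁅b.e i, v'⁆ = 0) (hv0' : v' ≠ 0) : μ = μ' := by
  have hne : ∀ {v : L} {μ : Module.Dual K H}, v ∈ rootSpace H μ → v ≠ 0 → rootSpace H μ ≠ ⊥ := by
    intro v μ hv hv0 h
    rw [h] at hv
    exact hv0 hv
  obtain ⟨n, hn⟩ := exists_content b hv he hv0 μ' (hne hv' hv0')
  obtain ⟨m, hm⟩ := exists_content b hv' he' hv0' μ (hne hv hv0)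
  have hn' : μ' = wt b μ n := LinearMap.coe_injective hn
  have hm' : μ = wt b μ' m := LinearMap.coe_injective hm
  have h1 : ∑ i, (n + m) i • b.baseSupp i = 0 := by
    simp only [Pi.add_apply, add_smul, Finset.sum_add_distrib]
    rw [wt] at hn' hm'
    rw [hn'] at hm'
    have h2 : μ - ∑ i, n i • b.baseSupp i - ∑ i, m i • b.baseSupp i - μ = 0 := by
      rw [← hm', sub_self]
    rw [← neg_eq_zero, ← h2]
    abel
  have h2 := eq_zero_of_sum_eq_zero b _ h1
  have h3 : n = 0 := by
    ext i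
    have := congrFun h2 i
    simp only [Pi.add_apply, Pi.zero_apply] at this
    simp
    omega
  rw [hn', h3, wt_zero]

end Highest

end K927.AdjVar
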