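import Groth.Agent.AdjVar.K927.Planes
import Mathlib.LinearAlgebra.QuadraticForm.Basic

/-!
# Semi-invariant quadratic forms on the Borel-stable planes
-/

set_option autoImplicit false
universe u v w
open LieAlgebra LieModule

namespace K927.AdjVar

/-- The linear algebra of semi-invariant forms: `e v₀ = 0, e v₁ = a v₀, e v₂ = 0` and
`e' v₀ = e' v₁ = 0, e' v₂ = a' v₁`. -/
theorem semi_aux {K : Type u} {W : Type v} [Field K] [CharZero K] [AddCommGroup W] [Module K W]
    (q : QuadraticForm K W) (E E' : W →ₗ[K] W) (v₀ v₁ v₂ : W) (a a' : K) (ha : a ≠ 0) (ha' : a' ≠ 0)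
    (h0 : E v₀ = 0) (h1 : E v₁ = a • v₀) (h2 : E v₂ = 0)
    (h0' : E' v₀ = 0) (h1' : E' v₁ = 0) (h2' : E' v₂ = a' • v₁)
    (hE : ∃ c : K, ∀ w, QuadraticMap.polar q (E w) w = c * q w)
    (hE' : ∃ c : K, ∀ w, QuadraticMap.polar q (E' w) w = c * q w) :
    q v₀ = 0 ∧ q v₁ = 0 ∧ QuadraticMap.polar q v₀ v₁ = 0 ∧ QuadraticMap.polar q v₀ v₂ = 0 ∧
      QuadraticMap.polar q v₁ v₂ = 0 := by
  obtain ⟨c, hc⟩ := hE
  obtain ⟨c', hc'⟩ := hE'
  have hq : ∀ x y z : K, q (x • v₀ + y • v₁ + z • v₂) = x ^ 2 * q v₀ + y ^ 2 * q v₁ + z ^ 2 * q v₂ +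
      x * y * QuadraticMap.polar q v₀ v₁ + x * z * QuadraticMap.polar q v₀ v₂ +
      y * z * QuadraticMap.polar q v₁ v₂ := by
    intro x y z
    rw [QuadraticMap.map_add q, QuadraticMap.map_add q, QuadraticMap.map_smul,
      QuadraticMap.map_smul, QuadraticMap.map_smul, QuadraticMap.polar_add_left,
      QuadraticMap.polar_smul_left, QuadraticMap.polar_smul_left, QuadraticMap.polar_smul_left,
      QuadraticMap.polar_smul_right, QuadraticMap.polar_smul_right, QuadraticMap.polar_smul_right]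
    simp only [smul_eq_mul]
    ring
  have hself : ∀ v : W, QuadraticMap.polar q v v = 2 * q v := by
    intro v
    rw [QuadraticMap.polar_self, nsmul_eq_mul]
    norm_num
  have e1 : ∀ x y z : K, a * y * (2 * x * q v₀ + y * QuadraticMap.polar q v₀ v₁ + z * QuadraticMap.polar q v₀ v₂) =
      c * (x ^ 2 * q v₀ + y ^ 2 * q v₁ + z ^ 2 * q v₂ +
      x * y * QuadraticMap.polar q v₀ v₁ + x * z * QuadraticMap.polar q v₀ v₂ +
      y * z * QuadraticMap.polar q v₁ v₂) := by
    intro x y z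
    rw [← hq, ← hc]
    rw [map_add, map_add, map_smul, map_smul, map_smul, h0, h1, h2, smul_zero, smul_zero, zero_add,
      add_zero, QuadraticMap.polar_smul_left, QuadraticMap.polar_smul_left,
      QuadraticMap.polar_add_right, QuadraticMap.polar_add_right,
      QuadraticMap.polar_smul_right, QuadraticMap.polar_smul_right, QuadraticMap.polar_smul_right,
      hself]
    simp only [smul_eq_mul]
    ring
  have e2 : ∀ x y z : K, a' * z * (x * QuadraticMap.polar q v₀ v₁ + 2 * y * q v₁ + z * QuadraticMap.polar q v₁ v₂) =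
      c' * (x ^ 2 * q v₀ + y ^ 2 * q v₁ + z ^ 2 * q v₂ +
      x * y * QuadraticMap.polar q v₀ v₁ + x * z * QuadraticMap.polar q v₀ v₂ +
      y * z * QuadraticMap.polar q v₁ v₂) := by
    intro x y z
    rw [← hq, ← hc']
    rw [map_add, map_add, map_smul, map_smul, map_smul, h0', h1', h2', smul_zero, smul_zero, zero_add,
      zero_add, QuadraticMap.polar_smul_left, QuadraticMap.polar_smul_left,
      QuadraticMap.polar_add_right, QuadraticMap.polar_add_right,
      QuadraticMap.polar_smul_right, QuadraticMap.polar_smul_right, QuadraticMap.polar_smul_right,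
      hself, QuadraticMap.polar_comm q v₁ v₀]
    simp only [smul_eq_mul]
    ring
  generalize QuadraticMap.polar q v₀ v₁ = b01 at *
  generalize QuadraticMap.polar q v₀ v₂ = b02 at *
  generalize QuadraticMap.polar q v₁ v₂ = b12 at *
  generalize q v₀ = q0 at *
  generalize q v₁ = q1 at *
  generalize q v₂ = q2 at *
  -- the coefficients of the first relation
  have f1 : c * q0 = 0 := by linear_combination -(e1 1 0 0)
  have f2 : a * b01 = c * q1 := by linear_combination e1 0 1 0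
  have f3 : c * q2 = 0 := by linear_combination -(e1 0 0 1)
  have f4 : 2 * a * q0 = c * b01 := by linear_combination e1 1 1 0 - e1 1 0 0 - e1 0 1 0
  have f5 : c * b02 = 0 := by linear_combination -(e1 1 0 1) + e1 1 0 0 + e1 0 0 1
  have f6 : a * b02 = c * b12 := by linear_combination e1 0 1 1 - e1 0 1 0 - e1 0 0 1
  have g1 : c' * q1 = 0 := by linear_combination -(e2 0 1 0)
  have g2 : a' * b12 = c' * q2 := by linear_combination e2 0 0 1
  have g4 : 2 * a' * q1 = c' * b12 := by linear_combination e2 0 1 1 - e2 0 1 0 - e2 0 0 1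
  have h20 : (2 : K) ≠ 0 := two_ne_zero
  by_cases hc0 : c = 0
  · subst hc0
    have k1 : b01 = 0 := by
      rcases mul_eq_zero.1 (f2.trans (zero_mul _)) with h | h
      · exact absurd h ha
      · exact h
    have k2 : q0 = 0 := by
      rcases mul_eq_zero.1 (f4.trans (zero_mul _)) with h | h
      · exact absurd h (mul_ne_zero h20 ha)
      · exact h
    have k3 : b02 = 0 := by
      rcases mul_eq_zero.1 (f6.trans (zero_mul _)) with h | h
      · exact absurd h ha
      · exact h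
    by_cases hc0' : c' = 0
    · subst hc0'
      have k4 : q1 = 0 := by
        rcases mul_eq_zero.1 (g4.trans (zero_mul _)) with h | h
        · exact absurd h (mul_ne_zero h20 ha')
        · exact h
      have k5 : b12 = 0 := by
        rcases mul_eq_zero.1 (g2.trans (zero_mul _)) with h | h
        · exact absurd h ha'
        · exact h
      exact ⟨k2, k4, k1, k3, k5⟩
    · have k4 : q1 = 0 := by
        rcases mul_eq_zero.1 g1 with h | h
        · exact absurd h hc0'
        · exact h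
      have k5 : b12 = 0 := by
        rw [k4, mul_zero] at g4
        rcases mul_eq_zero.1 g4.symm with h | h
        · exact absurd h hc0'
        · exact h
      exact ⟨k2, k4, k1, k3, k5⟩
  · have k2 : q0 = 0 := by
      rcases mul_eq_zero.1 f1 with h | h
      · exact absurd h hc0
      · exact h
    have k3 : b02 = 0 := by
      rcases mul_eq_zero.1 f5 with h | h
      · exact absurd h hc0
      · exact h
    have k5 : b12 = 0 := by
      rw [k3, mul_zero] at f6
      rcases mul_eq_zero.1 f6.symm with h | h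
      · exact absurd h hc0
      · exact h
    have k1 : b01 = 0 := by
      rw [k2, mul_zero] at f4
      rcases mul_eq_zero.1 f4.symm with h | h
      · exact absurd h hc0
      · exact h
    have k4 : q1 = 0 := by
      rw [k1, mul_zero] at f2
      rcases mul_eq_zero.1 f2.symm with h | h
      · exact absurd h hc0
      · exact h
    exact ⟨k2, k4, k1, k3, k5⟩

variable {ι : Type u} {K : Type v} {L : Type w} [Fintype ι] [Field K] [CharZero K]
    [IsAlgClosed K] [LieRing L] [LieAlgebra K L] [FiniteDimensional K L] [LieAlgebra.IsSimple K L]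
    {H : LieSubalgebra K L} [H.IsCartanSubalgebra] {b : LieAlgebra.Basis ι H}

variable {ρ : Module.Dual K H} {j : ι}

theorem form_eq (hρ : rootSpace H ρ ≠ ⊥) (htop : ∀ i, rootSpace H (⇑ρ + ⇑(b.baseSupp i)) = ⊥)
    (hN : ∀ i, ρ (b.h' i) ≠ 0 ↔ i = j) (hj : ρ (b.h' j) = 1) {W : Submodule K L}
    (hW3 : Module.finrank K W = 3) (hW : St b W) (q : QuadraticForm K W)
    (hq : ∀ i, ∃ c : K, ∀ w : W, QuadraticMap.polar q ⟨⁅b.e i, (w : L)⁆, hW.e i w w.2⟩ w = c * q w) :
    ∃ (ℓ : Module.Dual K W) (c : K), ∀ w : W, q w = c * ℓ w ^ 2 := by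
  obtain ⟨hle, i, hij, hA, hWeq, w2, hw2, hw2', hew⟩ := plane_eq hρ htop hN hj hW3 hW
  -- the vectors
  obtain ⟨w1, hw1, hw10⟩ := exists_ne_zero (sub_j_ne_bot hρ htop hj)
  have hw1W : w1 ∈ W := hle (Submodule.mem_sup_right hw1)
  -- `e_j w1 ≠ 0`
  have hst := stable_pair hρ htop hj
  have hw1e : ∀ k, k ≠ j → ⁅b.e k, w1⁆ = 0 := by
    intro k hk
    have h1 := lie_mem_genWeightSpace_of_mem_genWeightSpace (e_mem b k) hw1
    have h2 := sub_add_eq_bot hρ htop hj hk
    rw [add_comm] at h1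
    change _ ∈ rootSpace H (⇑ρ - ⇑(b.baseSupp j) + ⇑(b.baseSupp k)) at h1
    rw [h2] at h1
    exact h1
  have hej : ⁅b.e j, w1⁆ ≠ 0 := by
    intro h
    have h1 : ∀ k, ⁅b.e k, w1⁆ = 0 := by
      intro k
      by_cases hk : k = j
      · subst hk; exact h
      · exact hw1e k hk
    have h2 := eq_top_of_killed hρ htop hw1 hw10 h1
    exact rho_ne_sub (b := b) h2.symm
  have hejmem : ⁅b.e j, w1⁆ ∈ rootSpace H ρ := by
    have h1 := lie_mem_genWeightSpace_of_mem_genWeightSpace (e_mem b j) hw1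
    have h2 : (⇑(b.baseSupp j) + (⇑ρ - ⇑(b.baseSupp j)) : H → K) = ρ := by abel
    rw [h2] at h1
    exact h1
  have heimem : ⁅b.e i, w2⁆ ∈ rootSpace H (⇑ρ - ⇑(b.baseSupp j)) := by
    have h1 := lie_mem_genWeightSpace_of_mem_genWeightSpace (e_mem b i) hw2'
    have h2 : (⇑(b.baseSupp i) + (⇑ρ - ⇑(b.baseSupp j) - ⇑(b.baseSupp i)) : H → K) =
      ⇑ρ - ⇑(b.baseSupp j) := by abel
    rw [h2] at h1
    exact h1
  have hejw2 : ⁅b.e j, w2⁆ = 0 := by
    have h1 := lie_mem_genWeightSpace_of_mem_genWeightSpace (e_mem b j) hw2'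
    have h2 : (⇑(b.baseSupp j) + (⇑ρ - ⇑(b.baseSupp j) - ⇑(b.baseSupp i)) : H → K) =
      ⇑ρ - ⇑(b.baseSupp i) := by abel
    rw [h2] at h1
    change _ ∈ rootSpace H (⇑ρ - ⇑(b.baseSupp i)) at h1
    rw [sub_eq_bot hρ htop hN hij] at h1
    exact h1
  obtain ⟨a', ha'⟩ := exists_smul (sub_j_ne_zero hj) hw1 hw10 heimem
  have ha'0 : a' ≠ 0 := by
    rintro rfl
    rw [zero_smul] at ha'
    exact hew ha'
  have hw20 : w2 ≠ 0 := by
    rintro rfl
    rw [lie_zero] at hew
    exact hew rfl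
  -- the linear maps
  let E : ι → (W →ₗ[K] W) := fun k => (LieAlgebra.ad K L (b.e k)).restrict (fun w hw => hW.e k w hw)
  have hE : ∀ k (w : W), E k w = ⟨⁅b.e k, (w : L)⁆, hW.e k w w.2⟩ := fun k w => rfl
  let v₀ : W := ⟨⁅b.e j, w1⁆, hW.e j w1 hw1W⟩
  let v₁ : W := ⟨w1, hw1W⟩
  let v₂ : W := ⟨w2, hw2⟩
  obtain ⟨k1, k2, k3, k4, k5⟩ := semi_aux q (E j) (E i) v₀ v₁ v₂ 1 a' one_ne_zero ha'0
    (by rw [hE]; exact Subtype.ext (e_top htop hejmem j))
    (by rw [hE, one_smul])
    (by rw [hE]; exact Subtype.ext hejw2)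
    (by rw [hE]; exact Subtype.ext (e_top htop hejmem i))
    (by rw [hE]; exact Subtype.ext (hw1e i hij))
    (by rw [hE]; exact Subtype.ext ha')
    (hq j) (hq i)
  -- the basis
  have hspan : ∀ w : W, ∃ x y z : K, w = x • v₀ + y • v₁ + z • v₂ := by
    intro w
    obtain ⟨u, hu, t, ht, hut⟩ := Submodule.mem_sup.1 (hWeq.le w.2)
    obtain ⟨r, hr, s, hs, hrs⟩ := Submodule.mem_sup.1 hu
    obtain ⟨x, hx⟩ := exists_smul (rho_ne_zero hj) hejmem hej hr
    obtain ⟨y, hy⟩ := exists_smul (sub_j_ne_zero hj) hw1 hw10 hs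
    obtain ⟨z, hz⟩ := exists_smul (sub_sub_ne_zero hρ htop hN hij) hw2' hw20 ht
    refine ⟨x, y, z, Subtype.ext ?_⟩
    rw [← hut, ← hrs, hx, hy, hz]
    rfl
  have htopspan : ⊤ ≤ Submodule.span K (Set.range ![v₀, v₁, v₂]) := by
    intro w _
    obtain ⟨x, y, z, rfl⟩ := hspan w
    refine add_mem (add_mem ?_ ?_) ?_
    · exact Submodule.smul_mem _ _ (Submodule.subset_span ⟨0, rfl⟩)
    · exact Submodule.smul_mem _ _ (Submodule.subset_span ⟨1, rfl⟩)
    · exact Submodule.smul_mem _ _ (Submodule.subset_span ⟨2, rfl⟩)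
  let B := basisOfTopLeSpanOfCardEqFinrank ![v₀, v₁, v₂] htopspan (by rw [hW3]; rfl)
  refine ⟨B.coord 2, q v₂, fun w => ?_⟩
  obtain ⟨x, y, z, rfl⟩ := hspan w
  have hB0 : B 0 = v₀ := by simp [B]
  have hB1 : B 1 = v₁ := by simp [B]
  have hB2 : B 2 = v₂ := by simp [B]
  have hcoord : B.coord 2 (x • v₀ + y • v₁ + z • v₂) = z := by
    rw [← hB0, ← hB1, ← hB2]
    simp
  rw [hcoord]
  rw [QuadraticMap.map_add q, QuadraticMap.map_add q, QuadraticMap.map_smul,
      QuadraticMap.map_smul, QuadraticMap.map_smul, QuadraticMap.polar_add_left,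
      QuadraticMap.polar_smul_left, QuadraticMap.polar_smul_left, QuadraticMap.polar_smul_left,
      QuadraticMap.polar_smul_right, QuadraticMap.polar_smul_right, QuadraticMap.polar_smul_right,
      k1, k2, k3, k4, k5]
  simp only [smul_eq_mul]
  ring

end K927.AdjVar
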