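import Groth.Agent.AdjVar.K927.Stable

/-!
# Borel-stable lines and planes of the adjoint representation
-/

set_option autoImplicit false
universe u v w
open LieAlgebra LieModule

namespace K927.AdjVar

variable {ι : Type u} {K : Type v} {L : Type w} [Fintype ι] [Field K] [CharZero K]
    [IsAlgClosed K] [LieRing L] [LieAlgebra K L] [FiniteDimensional K L] [LieAlgebra.IsSimple K L]
    {H : LieSubalgebra K L} [H.IsCartanSubalgebra] {b : LieAlgebra.Basis ι H}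

set_option linter.unusedSectionVars false

/-- Distinct weight spaces are disjoint. -/
theorem disjoint_of_ne {χ₁ χ₂ : H → K} (h : χ₁ ≠ χ₂) :
    Disjoint (rootSpace H χ₁ : Submodule K L) (rootSpace H χ₂ : Submodule K L) :=
  (LieSubmodule.disjoint_toSubmodule).2 ((iSupIndep_genWeightSpace K H L).pairwiseDisjoint h)

theorem disjoint_sup_of_ne {χ₁ χ₂ χ₃ : H → K} (h1 : χ₁ ≠ χ₃) (h2 : χ₂ ≠ χ₃) :
    Disjoint ((rootSpace H χ₁ : Submodule K L) ⊔ (rootSpace H χ₂ : Submodule K L))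
      (rootSpace H χ₃ : Submodule K L) := by
  have h7 := (iSupIndep_genWeightSpace K H L).disjoint_biSup_biSup
    (s := {χ₁, χ₂}) (t := {χ₃}) (by
      rw [Set.disjoint_singleton_right]
      rintro (h | h)
      · exact h1 h.symm
      · exact h2 h.symm)
  rw [iSup_singleton, iSup_pair] at h7
  have h8 := (LieSubmodule.disjoint_toSubmodule).2 h7
  rwa [LieSubmodule.sup_toSubmodule] at h8

theorem finrank_pair {χ₁ χ₂ : H → K} (h : χ₁ ≠ χ₂) (h1 : rootSpace H χ₁ ≠ ⊥) (h10 : χ₁ ≠ 0)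
    (h2 : rootSpace H χ₂ ≠ ⊥) (h20 : χ₂ ≠ 0) :
    Module.finrank K ((rootSpace H χ₁ : Submodule K L) ⊔ (rootSpace H χ₂ : Submodule K L) : Submodule K L) = 2 := by
  have h3 := Submodule.finrank_sup_add_finrank_inf_eq (rootSpace H χ₁ : Submodule K L)
    (rootSpace H χ₂ : Submodule K L)
  rw [(disjoint_of_ne h).eq_bot, finrank_bot, finrank_eq_one h1 h10, finrank_eq_one h2 h20] at h3
  exact h3

theorem finrank_triple {χ₁ χ₂ χ₃ : H → K} (h : χ₁ ≠ χ₂) (h13 : χ₁ ≠ χ₃) (h23 : χ₂ ≠ χ₃)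
    (h1 : rootSpace H χ₁ ≠ ⊥) (h10 : χ₁ ≠ 0)
    (h2 : rootSpace H χ₂ ≠ ⊥) (h20 : χ₂ ≠ 0) (h3 : rootSpace H χ₃ ≠ ⊥) (h30 : χ₃ ≠ 0) :
    Module.finrank K ((rootSpace H χ₁ : Submodule K L) ⊔ (rootSpace H χ₂ : Submodule K L) ⊔
      (rootSpace H χ₃ : Submodule K L) : Submodule K L) = 3 := by
  have h4 := Submodule.finrank_sup_add_finrank_inf_eq
    ((rootSpace H χ₁ : Submodule K L) ⊔ (rootSpace H χ₂ : Submodule K L))
    (rootSpace H χ₃ : Submodule K L)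
  rw [(disjoint_sup_of_ne h13 h23).eq_bot, finrank_bot, finrank_pair h h1 h10 h2 h20,
    finrank_eq_one h3 h30] at h4
  exact h4

theorem baseSupp_ne_zero (i : ι) : (b.baseSupp i : H → K) ≠ 0 := by
  intro h
  have h1 := congrFun h (b.h' i)
  have h2 := A_self b i
  simp [h2] at h1

theorem baseSupp_ne_bot (i : ι) : rootSpace H (b.baseSupp i) ≠ ⊥ := (aw b i).genWeightSpace_ne_bot

variable {ρ : Module.Dual K H} (hρ : rootSpace H ρ ≠ ⊥)
  (htop : ∀ i, rootSpace H (⇑ρ + ⇑(b.baseSupp i)) = ⊥)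
variable {j : ι} (hN : ∀ i, ρ (b.h' i) ≠ 0 ↔ i = j) (hj : ρ (b.h' j) = 1)

theorem rho_ne_sub : (ρ : H → K) ≠ ⇑ρ - ⇑(b.baseSupp j) := by
  intro h
  apply baseSupp_ne_zero (b := b) j
  have h1 : (ρ : H → K) - (⇑ρ - ⇑(b.baseSupp j)) = 0 := sub_eq_zero.2 h
  rw [← h1]
  abel

theorem sub_ne_sub_sub (i : ι) : (⇑ρ - ⇑(b.baseSupp j) : H → K) ≠ ⇑ρ - ⇑(b.baseSupp j) - ⇑(b.baseSupp i) := by
  intro h
  apply baseSupp_ne_zero (b := b) i
  have h1 : (⇑ρ - ⇑(b.baseSupp j) : H → K) - (⇑ρ - ⇑(b.baseSupp j) - ⇑(b.baseSupp i)) = 0 := sub_eq_zero.2 h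
  rw [← h1]
  abel

theorem rho_ne_sub_sub (i : ι) : (ρ : H → K) ≠ ⇑ρ - ⇑(b.baseSupp j) - ⇑(b.baseSupp i) := by
  intro h
  have h1 : (ρ : H → K) - (⇑ρ - ⇑(b.baseSupp j) - ⇑(b.baseSupp i)) = 0 := sub_eq_zero.2 h
  have h2 : b.baseSupp j + b.baseSupp i = 0 := by
    apply LinearMap.coe_injective
    refine Eq.trans ?_ h1
    ext x
    simp only [LinearMap.add_apply, Pi.sub_apply]
    ring
  classical
  have h3 := eq_zero_of_sum_eq_zero b (Pi.single j 1 + Pi.single i 1) (by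
    simp only [Pi.add_apply, add_smul, Finset.sum_add_distrib]
    have h4 : ∀ k : ι, ∑ x, (Pi.single k 1 : ι → ℕ) x • b.baseSupp x = b.baseSupp k := by
      intro k
      rw [Finset.sum_eq_single k]
      · simp
      · intro l _ hl
        simp [Pi.single_eq_of_ne hl]
      · simp
    rw [h4, h4, h2])
  have h4 := congrFun h3 j
  simp at h4

/-- The third weight is nonzero. -/
theorem sub_sub_ne_zero (hρ : rootSpace H ρ ≠ ⊥) (htop : ∀ i, rootSpace H (⇑ρ + ⇑(b.baseSupp i)) = ⊥)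
    (hN : ∀ i, ρ (b.h' i) ≠ 0 ↔ i = j) {i : ι} (hij : i ≠ j) :
    (⇑ρ - ⇑(b.baseSupp j) - ⇑(b.baseSupp i) : H → K) ≠ 0 := by
  intro h
  have h1 : (⇑ρ - ⇑(b.baseSupp i) : H → K) = b.baseSupp j := by
    rw [← sub_eq_zero, ← h]
    abel
  have h2 := sub_eq_bot hρ htop hN hij
  rw [h1] at h2
  exact baseSupp_ne_bot j h2

/-- The sum of the root spaces of `ρ` and `ρ - α_j` is stable. -/
theorem stable_pair (hρ : rootSpace H ρ ≠ ⊥) (htop : ∀ i, rootSpace H (⇑ρ + ⇑(b.baseSupp i)) = ⊥)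
    (hj : ρ (b.h' j) = 1) :
    St b ((rootSpace H ρ : Submodule K L) ⊔ (rootSpace H (⇑ρ - ⇑(b.baseSupp j)) : Submodule K L)) := by
  constructor
  · intro x hx w hw
    obtain ⟨y, hy, z, hz, rfl⟩ := Submodule.mem_sup.1 hw
    rw [lie_add]
    exact add_mem (Submodule.mem_sup_left ((rootSpace H ρ).lie_mem (x := (⟨x, hx⟩ : H)) hy))
      (Submodule.mem_sup_right ((rootSpace H (⇑ρ - ⇑(b.baseSupp j))).lie_mem (x := (⟨x, hx⟩ : H)) hz))
  · intro i w hw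
    obtain ⟨y, hy, z, hz, rfl⟩ := Submodule.mem_sup.1 hw
    rw [lie_add, e_top htop hy i, zero_add]
    have h1 := lie_mem_genWeightSpace_of_mem_genWeightSpace (e_mem b i) hz
    by_cases hij : i = j
    · subst hij
      refine Submodule.mem_sup_left ?_
      have h2 : (⇑(b.baseSupp i) + (⇑ρ - ⇑(b.baseSupp i)) : H → K) = ρ := by abel
      rw [h2] at h1
      exact h1
    · have h2 := sub_add_eq_bot hρ htop hj hij
      rw [add_comm] at h1
      change _ ∈ rootSpace H (⇑ρ - ⇑(b.baseSupp j) + ⇑(b.baseSupp i)) at h1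
      rw [h2] at h1
      have h3 : ⁅b.e i, z⁆ = 0 := h1
      rw [h3]
      exact zero_mem _

theorem line_iff (hρ : rootSpace H ρ ≠ ⊥) (htop : ∀ i, rootSpace H (⇑ρ + ⇑(b.baseSupp i)) = ⊥)
    (hN : ∀ i, ρ (b.h' i) ≠ 0 ↔ i = j) (hj : ρ (b.h' j) = 1) (W : Submodule K L) :
    (Module.finrank K W = 2 ∧ St b W) ↔
      W = (rootSpace H ρ : Submodule K L) ⊔ (rootSpace H (⇑ρ - ⇑(b.baseSupp j)) : Submodule K L) := by
  have h2 := finrank_pair (rho_ne_sub (b := b) (ρ := ρ) (j := j)) hρ (rho_ne_zero hj)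
    (sub_j_ne_bot hρ htop hj) (sub_j_ne_zero hj)
  constructor
  · rintro ⟨h1, hW⟩
    have hne : W ≠ ⊥ := by
      rintro rfl
      rw [finrank_bot] at h1
      omega
    have h3 := rho_le hρ htop hW hne (rho_ne_zero hj)
    have hlt : ¬ W ≤ (rootSpace H ρ : Submodule K L) := by
      intro h
      have := Submodule.finrank_mono h
      rw [h1, finrank_eq_one hρ (rho_ne_zero hj)] at this
      omega
    have h4 := rho_sub_le hρ htop hN hj hW hlt
    exact (Submodule.eq_of_le_of_finrank_eq (sup_le h3 h4) (by rw [h2, h1])).symm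
  · rintro rfl
    exact ⟨h2, stable_pair hρ htop hj⟩

theorem plane_eq (hρ : rootSpace H ρ ≠ ⊥) (htop : ∀ i, rootSpace H (⇑ρ + ⇑(b.baseSupp i)) = ⊥)
    (hN : ∀ i, ρ (b.h' i) ≠ 0 ↔ i = j) (hj : ρ (b.h' j) = 1) {W : Submodule K L}
    (hW3 : Module.finrank K W = 3) (hW : St b W) :
    (rootSpace H ρ : Submodule K L) ⊔ (rootSpace H (⇑ρ - ⇑(b.baseSupp j)) : Submodule K L) ≤ W ∧
      ∃ (i : ι), i ≠ j ∧ b.A i j ≠ 0 ∧
        W = (rootSpace H ρ : Submodule K L) ⊔ (rootSpace H (⇑ρ - ⇑(b.baseSupp j)) : Submodule K L) ⊔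
          (rootSpace H (⇑ρ - ⇑(b.baseSupp j) - ⇑(b.baseSupp i)) : Submodule K L) ∧
        ∃ w : L, w ∈ W ∧ w ∈ rootSpace H (⇑ρ - ⇑(b.baseSupp j) - ⇑(b.baseSupp i)) ∧ ⁅b.e i, w⁆ ≠ 0 := by
  have h2 := finrank_pair (rho_ne_sub (b := b) (ρ := ρ) (j := j)) hρ (rho_ne_zero hj)
    (sub_j_ne_bot hρ htop hj) (sub_j_ne_zero hj)
  have hne : W ≠ ⊥ := by
    rintro rfl
    rw [finrank_bot] at hW3
    omega
  have h3 := rho_le hρ htop hW hne (rho_ne_zero hj)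
  have hlt : ¬ W ≤ (rootSpace H ρ : Submodule K L) := by
    intro h
    have := Submodule.finrank_mono h
    rw [hW3, finrank_eq_one hρ (rho_ne_zero hj)] at this
    omega
  have h4 := rho_sub_le hρ htop hN hj hW hlt
  have hlt2 : ¬ W ≤ (rootSpace H ρ : Submodule K L) ⊔ (rootSpace H (⇑ρ - ⇑(b.baseSupp j)) : Submodule K L) := by
    intro h
    have := Submodule.finrank_mono h
    rw [hW3, h2] at this
    omega
  refine ⟨sup_le h3 h4, ?_⟩
  obtain ⟨i, w, hij, hA, hw, hw2, hw3⟩ := exists_third hρ htop hN hj hW hlt2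
  have hw0 : w ≠ 0 := by
    rintro rfl
    rw [lie_zero] at hw3
    exact hw3 rfl
  have h5 := sub_sub_ne_zero hρ htop hN hij
  have h6 := finrank_triple (rho_ne_sub (b := b) (ρ := ρ) (j := j)) (rho_ne_sub_sub (b := b) (ρ := ρ) (j := j) i)
    (sub_ne_sub_sub (b := b) (ρ := ρ) (j := j) i) hρ (rho_ne_zero hj)
    (sub_j_ne_bot hρ htop hj) (sub_j_ne_zero hj) (ne_bot_of_mem hw2 hw0) h5
  refine ⟨i, hij, hA, ?_, w, hw, hw2, hw3⟩
  refine (Submodule.eq_of_le_of_finrank_eq (sup_le (sup_le h3 h4) ?_) (by rw [h6, hW3])).symm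
  intro x hx
  obtain ⟨c, rfl⟩ := exists_smul h5 hw2 hw0 hx
  exact Submodule.smul_mem _ _ hw

end K927.AdjVar
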