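import Groth.Agent.AdjVar.K927.Planes
import Mathlib.Algebra.Lie.Solvable

/-!
# The five-dimensional Lie algebra `sl₂ ⋉ K²` and its radical
-/

set_option autoImplicit false
universe u v w
open LieAlgebra LieModule

namespace K927.AdjVar

/-- The bracket relations of `sl₂ ⋉ K²`. -/
structure Rel (K : Type u) {A : Type v} [Field K] [LieRing A] [LieAlgebra K A] (e h f u w : A) : Prop where
  he : ⁅h, e⁆ = (2 : K) • e
  hf : ⁅h, f⁆ = (-2 : K) • f
  ef : ⁅e, f⁆ = h
  hu : ⁅h, u⁆ = u
  hw : ⁅h, w⁆ = -w
  eu : ⁅e, u⁆ = 0
  ew : ⁅e, w⁆ = u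
  fu : ⁅f, u⁆ = w
  fw : ⁅f, w⁆ = 0
  uw : ⁅u, w⁆ = 0

section

variable {K : Type u} {A : Type v} [Field K] [LieRing A] [LieAlgebra K A] {e h f u w : A}
  (r : Rel K e h f u w)
include r

theorem Rel.eh : ⁅e, h⁆ = (-2 : K) • e := by rw [← lie_skew, r.he, neg_smul]
theorem Rel.fh : ⁅f, h⁆ = (2 : K) • f := by rw [← lie_skew, r.hf, neg_smul, neg_neg]
theorem Rel.fe : ⁅f, e⁆ = -h := by rw [← lie_skew, r.ef]
theorem Rel.uh : ⁅u, h⁆ = -u := by rw [← lie_skew, r.hu]
theorem Rel.wh : ⁅w, h⁆ = w := by rw [← lie_skew, r.hw, neg_neg]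
theorem Rel.ue : ⁅u, e⁆ = 0 := by rw [← lie_skew, r.eu, neg_zero]
theorem Rel.we : ⁅w, e⁆ = -u := by rw [← lie_skew, r.ew]
theorem Rel.uf : ⁅u, f⁆ = -w := by rw [← lie_skew, r.fu]
theorem Rel.wf : ⁅w, f⁆ = 0 := by rw [← lie_skew, r.fw, neg_zero]
theorem Rel.wu : ⁅w, u⁆ = 0 := by rw [← lie_skew, r.uw, neg_zero]

/-- The span of the five elements is a Lie subalgebra. -/
def Rel.sub : LieSubalgebra K A :=
  { Submodule.span K {e, h, f, u, w} with
    lie_mem' := by
      intro x y hx hy
      change _ ∈ Submodule.span K {e, h, f, u, w}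
      have hx' : x ∈ Submodule.span K {e, h, f, u, w} := hx
      have hy' : y ∈ Submodule.span K {e, h, f, u, w} := hy
      clear hx hy
      have me : e ∈ Submodule.span K {e, h, f, u, w} := Submodule.subset_span (by simp)
      have mh : h ∈ Submodule.span K {e, h, f, u, w} := Submodule.subset_span (by simp)
      have mf : f ∈ Submodule.span K {e, h, f, u, w} := Submodule.subset_span (by simp)
      have mu : u ∈ Submodule.span K {e, h, f, u, w} := Submodule.subset_span (by simp)
      have mw : w ∈ Submodule.span K {e, h, f, u, w} := Submodule.subset_span (by simp)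
      induction hx' using Submodule.span_induction with
      | mem x hx =>
        induction hy' using Submodule.span_induction with
        | mem y hy =>
          simp only [Set.mem_insert_iff, Set.mem_singleton_iff] at hx hy
          rcases hx with rfl | rfl | rfl | rfl | rfl <;> rcases hy with rfl | rfl | rfl | rfl | rfl <;>
          simp only [lie_self, r.he, r.hf, r.ef, r.hu, r.hw, r.eu, r.ew, r.fu, r.fw, r.uw,
            r.eh, r.fh, r.fe, r.uh, r.wh, r.ue, r.we, r.uf, r.wf, r.wu] <;>
          first
          | exact zero_mem _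
          | assumption
          | exact neg_mem (by assumption)
          | exact Submodule.smul_mem _ _ (by assumption)
        | zero => rw [lie_zero]; exact zero_mem _
        | add y z _ _ hy hz => rw [lie_add]; exact add_mem hy hz
        | smul c y _ hy => rw [lie_smul]; exact Submodule.smul_mem _ _ hy
      | zero => rw [zero_lie]; exact zero_mem _
      | add x z _ _ hx hz => rw [add_lie]; exact add_mem hx hz
      | smul c x _ hx => rw [smul_lie]; exact Submodule.smul_mem _ _ hx }

theorem Rel.sub_toSubmodule : r.sub.toSubmodule = Submodule.span K {e, h, f, u, w} := rfl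

/-- The five elements are linearly independent. -/
theorem Rel.linearIndependent [CharZero K] (he0 : e ≠ 0) (hu0 : u ≠ 0) :
    LinearIndependent K ![e, h, f, u, w] := by
  have hh0 : h ≠ 0 := by
    rintro rfl
    have h1 := r.he
    rw [zero_lie] at h1
    exact he0 ((smul_eq_zero.1 h1.symm).resolve_left two_ne_zero)
  have hf0 : f ≠ 0 := by
    rintro rfl
    exact hh0 (by rw [← r.ef, lie_zero])
  have hw0 : w ≠ 0 := by
    rintro rfl
    exact hu0 (by rw [← r.ew, lie_zero])
  refine Module.End.eigenvectors_linearIndependent' (LieAlgebra.ad K A h) ![2, 0, -2, 1, -1] ?_ _ ?_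
  · have h2 : (2 : K) ≠ 0 := two_ne_zero
    have h3 : (3 : K) ≠ 0 := three_ne_zero
    have h4 : (4 : K) ≠ 0 := by norm_num
    have h1 : (1 : K) ≠ 0 := one_ne_zero
    intro i j hij
    fin_cases i <;> fin_cases j <;> first
      | rfl
      | (exfalso
         simp only [Fin.mk_zero, Fin.isValue, Matrix.cons_val_zero, Fin.mk_one, Matrix.cons_val_one,
           Fin.reduceFinMk, Matrix.cons_val] at hij
         first
         | exact h1 (by linear_combination hij)
         | exact h1 (by linear_combination -hij)
         | exact h2 (by linear_combination hij)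
         | exact h2 (by linear_combination -hij)
         | exact h3 (by linear_combination hij)
         | exact h3 (by linear_combination -hij)
         | exact h4 (by linear_combination hij)
         | exact h4 (by linear_combination -hij))
  · intro i
    rw [Module.End.hasEigenvector_iff, Module.End.mem_eigenspace_iff]
    fin_cases i
    · exact ⟨r.he, he0⟩
    · exact ⟨by simp, hh0⟩
    · exact ⟨r.hf, hf0⟩
    · exact ⟨by simp [r.hu], hu0⟩
    · exact ⟨by simp [r.hw], hw0⟩

theorem Rel.finrank_sub [CharZero K] (he0 : e ≠ 0) (hu0 : u ≠ 0) : Module.finrank K r.sub = 5 := by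
  have h1 := finrank_span_eq_card (r.linearIndependent he0 hu0)
  have h2 : Set.range ![e, h, f, u, w] = {e, h, f, u, w} := by
    ext x
    simp [Matrix.range_cons]
    tauto
  rw [h2] at h1
  exact h1

/-- The radical of `sl₂ ⋉ K²`. -/
theorem Rel.radical_eq [CharZero K] [FiniteDimensional K A] (he0 : e ≠ 0)
    (hspan : ∀ x : A, ∃ a b c d g : K, x = a • e + b • h + c • f + d • u + g • w) :
    (LieAlgebra.radical K A).toSubmodule = Submodule.span K {u, w} := by
  -- the ideal spanned by `u, w`
  let I : LieIdeal K A :=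
    { Submodule.span K {u, w} with
      lie_mem := by
        intro x m hm
        change _ ∈ Submodule.span K {u, w}
        have hm' : m ∈ Submodule.span K {u, w} := hm
        have mu : u ∈ Submodule.span K {u, w} := Submodule.subset_span (by simp)
        have mw : w ∈ Submodule.span K {u, w} := Submodule.subset_span (by simp)
        obtain ⟨p, q, rfl⟩ := Submodule.mem_span_pair.1 hm'
        obtain ⟨a, b, c, d, g, rfl⟩ := hspan x
        simp only [add_lie, smul_lie, lie_add, lie_smul, r.eu, r.ew, r.hu, r.hw, r.fu, r.fw, r.uw, r.wu,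
          lie_self, smul_zero, add_zero, zero_add]
        repeat' first
          | exact zero_mem _
          | apply add_mem
          | apply Submodule.smul_mem
          | apply neg_mem
          | exact mu
          | exact mw }
  have hI : I.toSubmodule = Submodule.span K {u, w} := rfl
  have hIab : IsLieAbelian I := by
    constructor
    rintro ⟨x, hx⟩ ⟨y, hy⟩
    obtain ⟨p, q, rfl⟩ := Submodule.mem_span_pair.1 (show x ∈ Submodule.span K {u, w} from hx)
    obtain ⟨p', q', rfl⟩ := Submodule.mem_span_pair.1 (show y ∈ Submodule.span K {u, w} from hy)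
    apply Subtype.ext
    change ⁅p • u + q • w, p' • u + q' • w⁆ = (0 : A)
    simp [r.uw, r.wu]
  have hIs : IsSolvable I := inferInstance
  have hle : I ≤ LieAlgebra.radical K A := (LieIdeal.solvable_iff_le_radical K A I).1 hIs
  rw [← hI]
  refine le_antisymm ?_ (show I.toSubmodule ≤ (LieAlgebra.radical K A).toSubmodule from hle)
  -- the other inclusion
  intro x hx
  have hx' : x ∈ LieAlgebra.radical K A := hx
  obtain ⟨a, b, c, d, g, rfl⟩ := hspan x
  by_contra hcon
  have hmu : u ∈ LieAlgebra.radical K A := hle (show u ∈ Submodule.span K {u, w} from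
    Submodule.subset_span (by simp))
  have hmw : w ∈ LieAlgebra.radical K A := hle (show w ∈ Submodule.span K {u, w} from
    Submodule.subset_span (by simp))
  -- `e` lies in the radical
  have hme : e ∈ LieAlgebra.radical K A := by
    have h1 : ⁅e, a • e + b • h + c • f + d • u + g • w⁆ ∈ LieAlgebra.radical K A :=
      LieSubmodule.lie_mem _ hx'
    have h1' : ⁅e, a • e + b • h + c • f + d • u + g • w⁆ = (-2 * b) • e + c • h + g • u := by
      simp only [lie_add, lie_smul, lie_self, r.eh, r.ef, r.eu, r.ew, smul_zero, add_zero, zero_add,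
        smul_smul]
      rw [mul_comm b]
    rw [h1'] at h1
    have h2 : ⁅e, (-2 * b) • e + c • h + g • u⁆ ∈ LieAlgebra.radical K A :=
      LieSubmodule.lie_mem _ h1
    have h2' : ⁅e, (-2 * b) • e + c • h + g • u⁆ = (-2 * c) • e := by
      simp only [lie_add, lie_smul, lie_self, r.eh, r.eu, smul_zero, add_zero, zero_add,
        smul_smul]
      rw [mul_comm c]
    rw [h2'] at h2
    by_cases hc : c = 0
    · by_cases hb : b = 0
      · subst hb hc
        have ha : a ≠ 0 := by
          rintro rfl
          apply hcon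
          change _ ∈ Submodule.span K {u, w}
          simp only [zero_smul, zero_add]
          exact Submodule.mem_span_pair.2 ⟨d, g, rfl⟩
        have h3 : a • e ∈ LieAlgebra.radical K A := by
          have h4 := sub_mem hx' (add_mem (SMulMemClass.smul_mem d hmu) (SMulMemClass.smul_mem g hmw))
          have h5 : a • e + (0 : K) • h + (0 : K) • f + d • u + g • w - (d • u + g • w) = a • e := by
            simp
          rwa [h5] at h4
        have h6 := SMulMemClass.smul_mem a⁻¹ h3
        rwa [smul_smul, inv_mul_cancel₀ ha, one_smul] at h6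
      · subst hc
        have h3 : (-2 * b) • e ∈ LieAlgebra.radical K A := by
          have h4 := sub_mem h1 (SMulMemClass.smul_mem g hmu)
          have h5 : (-2 * b) • e + (0 : K) • h + g • u - g • u = (-2 * b) • e := by simp
          rwa [h5] at h4
        have h6 := SMulMemClass.smul_mem (-2 * b)⁻¹ h3
        rwa [smul_smul, inv_mul_cancel₀ (mul_ne_zero (by norm_num) hb), one_smul] at h6
    · have h6 := SMulMemClass.smul_mem (-2 * c)⁻¹ h2
      rwa [smul_smul, inv_mul_cancel₀ (mul_ne_zero (by norm_num) hc), one_smul] at h6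
  have hmh : h ∈ LieAlgebra.radical K A := by
    have h1 : ⁅f, e⁆ ∈ LieAlgebra.radical K A := LieSubmodule.lie_mem _ hme
    rw [r.fe] at h1
    simpa using neg_mem h1
  have hmf : f ∈ LieAlgebra.radical K A := by
    have h1 : ⁅f, h⁆ ∈ LieAlgebra.radical K A := LieSubmodule.lie_mem _ hmh
    rw [r.fh] at h1
    have h6 := SMulMemClass.smul_mem (2 : K)⁻¹ h1
    rwa [smul_smul, inv_mul_cancel₀ two_ne_zero, one_smul] at h6
  have htop : LieAlgebra.radical K A = ⊤ := by
    rw [eq_top_iff]
    intro y _
    obtain ⟨a, b, c, d, g, rfl⟩ := hspan y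
    exact add_mem (add_mem (add_mem (add_mem (SMulMemClass.smul_mem _ hme) (SMulMemClass.smul_mem _ hmh))
      (SMulMemClass.smul_mem _ hmf)) (SMulMemClass.smul_mem _ hmu)) (SMulMemClass.smul_mem _ hmw)
  -- `A` is solvable
  have hsol : IsSolvable A := by
    have h1 : IsSolvable (LieAlgebra.radical K A) := inferInstance
    rw [htop] at h1
    exact (LieAlgebra.solvable_iff_equiv_solvable LieIdeal.topEquiv).1 h1
  have hnt : Nontrivial A := ⟨e, 0, he0⟩
  have h1 := derivedSeries_lt_top_of_solvable K A
  apply h1.ne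
  rw [eq_top_iff]
  have hbr : ∀ x y : A, ⁅x, y⁆ ∈ derivedSeries K A 1 := by
    intro x y
    rw [show derivedSeries K A 1 = ⁅(⊤ : LieIdeal K A), (⊤ : LieIdeal K A)⁆ from by
      simp]
    exact LieSubmodule.lie_mem_lie (LieSubmodule.mem_top x) (LieSubmodule.mem_top y)
  intro y _
  have e1 : e ∈ derivedSeries K A 1 := by
    have h1 := hbr h e
    rw [r.he] at h1
    have h6 := SMulMemClass.smul_mem (2 : K)⁻¹ h1
    rwa [smul_smul, inv_mul_cancel₀ two_ne_zero, one_smul] at h6
  have e2 : h ∈ derivedSeries K A 1 := r.ef ▸ hbr e f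
  have e3 : f ∈ derivedSeries K A 1 := by
    have h1 := hbr f h
    rw [r.fh] at h1
    have h6 := SMulMemClass.smul_mem (2 : K)⁻¹ h1
    rwa [smul_smul, inv_mul_cancel₀ two_ne_zero, one_smul] at h6
  have e4 : u ∈ derivedSeries K A 1 := r.hu ▸ hbr h u
  have e5 : w ∈ derivedSeries K A 1 := r.fu ▸ hbr f u
  obtain ⟨a, b, c, d, g, rfl⟩ := hspan y
  exact add_mem (add_mem (add_mem (add_mem (SMulMemClass.smul_mem _ e1) (SMulMemClass.smul_mem _ e2))
      (SMulMemClass.smul_mem _ e3)) (SMulMemClass.smul_mem _ e4)) (SMulMemClass.smul_mem _ e5)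

end

end K927.AdjVar
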