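import Groth.Agent.AdjVar.K927.Radical

/-!
# The subalgebra generated by the root spaces of `ρ`, `-ρ` and `ρ - α_j`
-/

set_option autoImplicit false
universe u v w
open LieAlgebra LieModule

namespace K927.AdjVar

variable {ι : Type u} {K : Type v} {L : Type w} [Fintype ι] [Field K] [CharZero K]
    [IsAlgClosed K] [LieRing L] [LieAlgebra K L] [FiniteDimensional K L] [LieAlgebra.IsSimple K L]
    {H : LieSubalgebra K L} [H.IsCartanSubalgebra] {b : LieAlgebra.Basis ι H}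

/-- Root strings in the direction of a root. -/
theorem exists_string_gen (α : Weight K H L) (hα : α.IsNonZero) (β : H → K) (hβ : rootSpace H β ≠ ⊥) :
    ∃ p q : ℕ, β (IsKilling.coroot α) = ((p : ℤ) - q : ℤ) ∧
      ∀ n : ℤ, rootSpace H (β + n • ⇑α) ≠ ⊥ ↔ (n ≤ q ∧ -n ≤ p) := by
  let βw : Weight K H L := ⟨β, hβ⟩
  refine ⟨chainBotCoeff α βw, chainTopCoeff α βw, ?_, fun n => ?_⟩
  · have h := IsKilling.apply_coroot_eq_cast α βw
    exact_mod_cast h
  · have h := IsKilling.rootSpace_zsmul_add_ne_bot_iff α βw hα n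
    rw [← h]
    have h2 : β + n • ⇑α = n • (α : H → K) + (βw : H → K) := by
      rw [add_comm]
      rfl
    rw [h2]

theorem neg_ne_bot {χ : H → K} (h : rootSpace H χ ≠ ⊥) : rootSpace H (-χ) ≠ ⊥ :=
  (-(⟨χ, h⟩ : Weight K H L)).genWeightSpace_ne_bot

theorem neg_eq_bot {χ : H → K} (h : rootSpace H χ = ⊥) : rootSpace H (-χ) = ⊥ := by
  by_contra hcon
  have h1 := neg_ne_bot hcon
  rw [neg_neg] at h1
  exact h1 h

variable {ρ : Module.Dual K H} (hρ : rootSpace H ρ ≠ ⊥)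
  (htop : ∀ i, rootSpace H (⇑ρ + ⇑(b.baseSupp i)) = ⊥)
variable {j : ι} (hj : ρ (b.h' j) = 1)

include hρ htop hj

/-- `2ρ - α_j` is not a root. -/
theorem two_rho_sub_eq_bot : rootSpace H (⇑ρ + (⇑ρ - ⇑(b.baseSupp j))) = ⊥ := by
  classical
  by_contra hcon
  obtain ⟨n, hn⟩ := exists_content_top hρ htop _ hcon
  have h0 : rootSpace H (0 : H → K) ≠ ⊥ := by
    have h1 := lie_mem_genWeightSpace_of_mem_genWeightSpace (e_mem b j) (f_mem b j)
    have h2 : (⇑(b.baseSupp j) + -⇑(b.baseSupp j) : H → K) = 0 := by abel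
    rw [h2] at h1
    refine ne_bot_of_mem h1 ?_
    rw [(b.sl2 j).lie_e_f]
    exact (b.sl2 j).h_ne_zero
  obtain ⟨m, hm⟩ := exists_content_top hρ htop _ h0
  have hn' : ρ + (ρ - b.baseSupp j) = wt b ρ n := LinearMap.coe_injective hn
  have hm' : (0 : Module.Dual K H) = wt b ρ m := LinearMap.coe_injective hm
  have hs : ∀ k : ι, ∑ x, (Pi.single k 1 : ι → ℕ) x • b.baseSupp x = b.baseSupp k := by
    intro k
    rw [Finset.sum_eq_single k]
    · simp
    · intro l _ hl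
      simp [Pi.single_eq_of_ne hl]
    · simp
  rw [wt] at hn' hm'
  have hm2 : ρ = ∑ i, m i • b.baseSupp i := by
    rw [← sub_eq_zero, ← hm']
  have hn2 : ρ + ∑ i, n i • b.baseSupp i = b.baseSupp j := by
    have h3 : ρ + ∑ i, n i • b.baseSupp i - b.baseSupp j = 0 := by
      have h4 : ρ + (ρ - b.baseSupp j) - (ρ - ∑ i, n i • b.baseSupp i) = 0 := by rw [← hn', sub_self]
      rw [← h4]
      abel
    exact sub_eq_zero.1 h3
  have h5 : ∑ i, (m + n) i • b.baseSupp i = ∑ i, (Pi.single j 1 : ι → ℕ) i • b.baseSupp i := by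
    rw [hs]
    simp only [Pi.add_apply, add_smul, Finset.sum_add_distrib]
    rw [← hm2, hn2]
  have h6 : m + n = Pi.single j 1 := funext
    (Fintype.linearIndependent_iffₛ.mp (b.linearIndependent_baseSupp.restrict_scalars' ℕ) _ _ h5)
  have h7 : m j = 0 ∨ m j = 1 := by
    have := congrFun h6 j
    simp only [Pi.add_apply, Pi.single_eq_same] at this
    omega
  have h8 : ∀ k, k ≠ j → m k = 0 := by
    intro k hk
    have := congrFun h6 k
    simp only [Pi.add_apply, Pi.single_eq_of_ne hk] at this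
    omega
  rcases h7 with h7 | h7
  · have h9 : m = 0 := by
      ext k
      by_cases hk : k = j
      · subst hk; exact h7
      · exact h8 k hk
    rw [h9] at hm2
    simp only [Pi.zero_apply, zero_smul, Finset.sum_const_zero] at hm2
    exact rho_ne_zero hj (by rw [hm2]; rfl)
  · have h9 : m = Pi.single j 1 := by
      ext k
      by_cases hk : k = j
      · subst hk; rw [h7, Pi.single_eq_same]
      · rw [h8 k hk, Pi.single_eq_of_ne hk]
    rw [h9, hs] at hm2
    rw [hm2] at hj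
    have := A_self b j
    simp [this] at hj

theorem sub_coroot : (⇑ρ - ⇑(b.baseSupp j)) (IsKilling.coroot (⟨ρ, hρ⟩ : Weight K H L)) = 1 := by
  have hα : (⟨ρ, hρ⟩ : Weight K H L).IsNonZero := fun h => rho_ne_zero hj h
  obtain ⟨p, q, h1, h2⟩ := exists_string_gen (⟨ρ, hρ⟩ : Weight K H L) hα _ (sub_j_ne_bot hρ htop hj)
  have hq : q = 0 := by
    have h4 := (h2 1).2.mt (by
      rw [one_smul, not_not, add_comm]
      exact two_rho_sub_eq_bot hρ htop hj)
    omega
  have hp1 : 1 ≤ p := by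
    have h4 := (h2 (-1)).1 (by
      have h5 := neg_ne_bot (baseSupp_ne_bot (b := b) j)
      have h6 : (⇑ρ - ⇑(b.baseSupp j) + (-1 : ℤ) • ⇑ρ : H → K) = -⇑(b.baseSupp j) := by
        rw [neg_smul, one_smul]
        abel
      change rootSpace H (⇑ρ - ⇑(b.baseSupp j) + (-1 : ℤ) • ⇑ρ : H → K) ≠ ⊥
      rw [h6]
      exact h5)
    omega
  have hp2 : ¬ 2 ≤ p := by
    intro hp
    have h4 := (h2 (-2)).2 (by omega)
    apply h4
    have h5 := neg_eq_bot (htop j)
    have h6 : (⇑ρ - ⇑(b.baseSupp j) + (-2 : ℤ) • ⇑ρ : H → K) = -(⇑ρ + ⇑(b.baseSupp j)) := by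
      rw [neg_smul, two_smul]
      abel
    change rootSpace H (⇑ρ - ⇑(b.baseSupp j) + (-2 : ℤ) • ⇑ρ : H → K) = ⊥
    rw [h6]
    exact h5
  rw [h1, hq]
  have hp : p = 1 := by omega
  rw [hp]
  norm_num

/-- The five elements. -/
theorem exists_rel : ∃ e h f u w : L, Rel K e h f u w ∧ e ≠ 0 ∧ u ≠ 0 ∧
    e ∈ rootSpace H ρ ∧ f ∈ rootSpace H (-⇑ρ) ∧ u ∈ rootSpace H (⇑ρ - ⇑(b.baseSupp j)) ∧
    w ∈ rootSpace H (-⇑(b.baseSupp j)) := by
  have hα : (⟨ρ, hρ⟩ : Weight K H L).IsNonZero := fun h => rho_ne_zero hj h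
  obtain ⟨h, e, f, ht, he, hf⟩ := IsKilling.exists_isSl2Triple_of_weight_isNonZero hα
  have hh := ht.h_eq_coroot hα he hf
  obtain ⟨u, hu, hu0⟩ := exists_ne_zero (sub_j_ne_bot hρ htop hj)
  have hw : ⁅f, u⁆ ∈ rootSpace H (-⇑(b.baseSupp j)) := by
    have h1 := lie_mem_genWeightSpace_of_mem_genWeightSpace hf hu
    have h2 : (-⇑ρ + (⇑ρ - ⇑(b.baseSupp j)) : H → K) = -⇑(b.baseSupp j) := by abel
    change _ ∈ rootSpace H (-⇑ρ + (⇑ρ - ⇑(b.baseSupp j))) at h1
    rw [h2] at h1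
    exact h1
  have hhu : ⁅h, u⁆ = u := by
    rw [hh]
    have h1 := IsKilling.lie_eq_smul_of_mem_rootSpace hu (IsKilling.coroot (⟨ρ, hρ⟩ : Weight K H L))
    rw [sub_coroot hρ htop hj, one_smul] at h1
    exact h1
  have heu : ⁅e, u⁆ = 0 := by
    have h1 := lie_mem_genWeightSpace_of_mem_genWeightSpace he hu
    change _ ∈ rootSpace H (⇑ρ + (⇑ρ - ⇑(b.baseSupp j))) at h1
    rw [two_rho_sub_eq_bot hρ htop hj] at h1
    exact h1
  have hhf : ⁅h, f⁆ = (-2 : K) • f := by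
    have := ht.lie_lie_smul_f K
    rw [this, neg_smul]
  refine ⟨e, h, f, u, ⁅f, u⁆, ⟨ht.lie_h_e_smul K, hhf, ht.lie_e_f, hhu, ?_, heu, ?_, rfl, ?_, ?_⟩,
    ht.e_ne_zero, hu0, he, hf, hu, hw⟩
  · rw [leibniz_lie, hhf, hhu, smul_lie]
    rw [neg_smul, two_smul]
    abel
  · rw [leibniz_lie, ht.lie_e_f, hhu, heu, lie_zero, add_zero]
  · have h1 := lie_mem_genWeightSpace_of_mem_genWeightSpace hf hw
    have h2 : (-⇑ρ + -⇑(b.baseSupp j) : H → K) = -(⇑ρ + ⇑(b.baseSupp j)) := by abel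
    change _ ∈ rootSpace H (-⇑ρ + -⇑(b.baseSupp j)) at h1
    rw [h2, neg_eq_bot (htop j)] at h1
    exact h1
  · have h1 := lie_mem_genWeightSpace_of_mem_genWeightSpace hu hw
    have h2 : (⇑ρ - ⇑(b.baseSupp j) + -⇑(b.baseSupp j) : H → K) = ⇑ρ - ⇑(b.baseSupp j) - ⇑(b.baseSupp j) := by
      abel
    change _ ∈ rootSpace H (⇑ρ - ⇑(b.baseSupp j) + -⇑(b.baseSupp j)) at h1
    rw [h2, sub_j_j_eq_bot hρ htop hj] at h1
    exact h1

theorem main (A : LieSubalgebra K L)
    (hA : A = LieSubalgebra.lieSpan K L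
      ((rootSpace H ρ : Set L) ∪ (rootSpace H (-⇑ρ) : Set L) ∪
        (rootSpace H (⇑ρ - ⇑(b.baseSupp j)) : Set L))) :
    Module.finrank K A = 5 ∧ Module.finrank K (LieAlgebra.radical K A) = 2 ∧
      (LieAlgebra.radical K A).toSubmodule.map (A.incl : A →ₗ⁅K⁆ L).toLinearMap =
        (rootSpace H (⇑ρ - ⇑(b.baseSupp j)) : Submodule K L) ⊔
          (rootSpace H (-⇑(b.baseSupp j)) : Submodule K L) := by
  obtain ⟨e, h, f, u, w, r, he0, hu0, he, hf, hu, hw⟩ := exists_rel hρ htop hj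
  have hf0 : f ≠ 0 := by
    rintro rfl
    have h1 := r.ef
    rw [lie_zero] at h1
    have h2 := r.he
    rw [← h1, zero_lie] at h2
    exact he0 ((smul_eq_zero.1 h2.symm).resolve_left two_ne_zero)
  have hw0 : w ≠ 0 := by
    rintro rfl
    exact hu0 (by rw [← r.ew, lie_zero])
  have hρ0 : (ρ : H → K) ≠ 0 := rho_ne_zero hj
  have hAs : A = r.sub := by
    rw [hA]
    apply le_antisymm
    · rw [LieSubalgebra.lieSpan_le]
      rintro x ((hx | hx) | hx)
      · obtain ⟨c, rfl⟩ := exists_smul hρ0 he he0 hx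
        exact Submodule.smul_mem _ _ (Submodule.subset_span (by simp))
      · obtain ⟨c, rfl⟩ := exists_smul (neg_ne_zero.2 hρ0) hf hf0 hx
        exact Submodule.smul_mem _ _ (Submodule.subset_span (by simp))
      · obtain ⟨c, rfl⟩ := exists_smul (sub_j_ne_zero hj) hu hu0 hx
        exact Submodule.smul_mem _ _ (Submodule.subset_span (by simp))
    · change r.sub.toSubmodule ≤ (LieSubalgebra.lieSpan K L _).toSubmodule
      rw [r.sub_toSubmodule, Submodule.span_le]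
      have m1 : e ∈ LieSubalgebra.lieSpan K L
          ((rootSpace H ρ : Set L) ∪ (rootSpace H (-⇑ρ) : Set L) ∪
        (rootSpace H (⇑ρ - ⇑(b.baseSupp j)) : Set L)) := LieSubalgebra.subset_lieSpan (Or.inl (Or.inl he))
      have m2 : f ∈ LieSubalgebra.lieSpan K L
          ((rootSpace H ρ : Set L) ∪ (rootSpace H (-⇑ρ) : Set L) ∪
        (rootSpace H (⇑ρ - ⇑(b.baseSupp j)) : Set L)) := LieSubalgebra.subset_lieSpan (Or.inl (Or.inr hf))
      have m3 : u ∈ LieSubalgebra.lieSpan K L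
          ((rootSpace H ρ : Set L) ∪ (rootSpace H (-⇑ρ) : Set L) ∪
        (rootSpace H (⇑ρ - ⇑(b.baseSupp j)) : Set L)) := LieSubalgebra.subset_lieSpan (Or.inr hu)
      rintro x (rfl | rfl | rfl | rfl | rfl)
      · exact m1
      · exact r.ef ▸ LieSubalgebra.lie_mem _ m1 m2
      · exact m2
      · exact m3
      · exact r.fu ▸ LieSubalgebra.lie_mem _ m2 m3
  have hmem : ∀ x ∈ ({e, h, f, u, w} : Set L), x ∈ A := by
    intro x hx
    rw [hAs]
    exact Submodule.subset_span hx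
  have me := hmem e (by simp)
  have mh := hmem h (by simp)
  have mf := hmem f (by simp)
  have mu := hmem u (by simp)
  have mw := hmem w (by simp)
  have hfr : Module.finrank K A = 5 := by
    rw [hAs]
    exact r.finrank_sub he0 hu0
  -- the relations in `A`
  have rA : Rel K (⟨e, me⟩ : A) ⟨h, mh⟩ ⟨f, mf⟩ ⟨u, mu⟩ ⟨w, mw⟩ :=
    ⟨Subtype.ext r.he, Subtype.ext r.hf, Subtype.ext r.ef, Subtype.ext r.hu, Subtype.ext r.hw,
      Subtype.ext r.eu, Subtype.ext r.ew, Subtype.ext r.fu, Subtype.ext r.fw, Subtype.ext r.uw⟩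
  have hspan : ∀ x : A, ∃ a b c d g : K, x = a • (⟨e, me⟩ : A) + b • (⟨h, mh⟩ : A) + c • (⟨f, mf⟩ : A) +
      d • (⟨u, mu⟩ : A) + g • (⟨w, mw⟩ : A) := by
    rintro ⟨x, hx⟩
    have hx' : x ∈ Submodule.span K {e, h, f, u, w} := by
      rw [hAs] at hx
      exact hx
    rw [Submodule.mem_span_insert] at hx'
    obtain ⟨a, x1, hx1, rfl⟩ := hx'
    rw [Submodule.mem_span_insert] at hx1
    obtain ⟨b', x2, hx2, rfl⟩ := hx1
    rw [Submodule.mem_span_insert] at hx2
    obtain ⟨c, x3, hx3, rfl⟩ := hx2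
    obtain ⟨d, g, rfl⟩ := Submodule.mem_span_pair.1 hx3
    refine ⟨a, b', c, d, g, Subtype.ext ?_⟩
    simp [add_assoc]
  have hrad := rA.radical_eq (fun h => he0 (congrArg Subtype.val h)) hspan
  have hmap : (LieAlgebra.radical K A).toSubmodule.map (A.incl : A →ₗ⁅K⁆ L).toLinearMap =
        (rootSpace H (⇑ρ - ⇑(b.baseSupp j)) : Submodule K L) ⊔
          (rootSpace H (-⇑(b.baseSupp j)) : Submodule K L) := by
    rw [hrad, Submodule.map_span, Set.image_pair, Submodule.span_insert]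
    congr 1
    · apply le_antisymm
      · rw [Submodule.span_singleton_le_iff_mem]
        exact hu
      · intro x hx
        obtain ⟨c, rfl⟩ := exists_smul (sub_j_ne_zero hj) hu hu0 hx
        exact Submodule.smul_mem _ _ (Submodule.subset_span rfl)
    · apply le_antisymm
      · rw [Submodule.span_singleton_le_iff_mem]
        exact hw
      · intro x hx
        obtain ⟨c, rfl⟩ := exists_smul (neg_ne_zero.2 (baseSupp_ne_zero j)) hw hw0 hx
        exact Submodule.smul_mem _ _ (Submodule.subset_span rfl)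
  refine ⟨hfr, ?_, hmap⟩
  have hne : (⇑ρ - ⇑(b.baseSupp j) : H → K) ≠ -⇑(b.baseSupp j) := by
    intro h
    apply hρ0
    have h1 : (⇑ρ - ⇑(b.baseSupp j) : H → K) - -⇑(b.baseSupp j) = 0 := sub_eq_zero.2 h
    rw [← h1]
    abel
  have h2 := finrank_pair hne (sub_j_ne_bot hρ htop hj) (sub_j_ne_zero hj)
    (ne_bot_of_mem hw hw0) (neg_ne_zero.2 (baseSupp_ne_zero j))
  rw [← hmap] at h2
  have h3 := (Submodule.equivMapOfInjective (A.incl : A →ₗ⁅K⁆ L).toLinearMap Subtype.val_injective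
    (LieAlgebra.radical K A).toSubmodule).finrank_eq
  exact h3.trans h2

end K927.AdjVar
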