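import Groth.Agent.AdjVar.K927.Base

/-!
# Borel-stable subspaces of a simple Lie algebra
-/

set_option autoImplicit false
universe u v w
open LieAlgebra LieModule

namespace K927.AdjVar

variable {ι : Type u} {K : Type v} {L : Type w} [Fintype ι] [Field K] [CharZero K]
    [IsAlgClosed K] [LieRing L] [LieAlgebra K L] [FiniteDimensional K L] [LieAlgebra.IsSimple K L]
    {H : LieSubalgebra K L} [H.IsCartanSubalgebra] (b : LieAlgebra.Basis ι H)

set_option linter.unusedSectionVars false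

theorem exists_ne_zero {χ : H → K} (h : rootSpace H χ ≠ ⊥) : ∃ v ∈ rootSpace H χ, v ≠ 0 := by
  by_contra hcon
  push Not at hcon
  exact h ((LieSubmodule.eq_bot_iff _).2 hcon)

theorem ne_bot_of_mem {χ : H → K} {v : L} (hv : v ∈ rootSpace H χ) (hv0 : v ≠ 0) : rootSpace H χ ≠ ⊥ :=
  fun h => hv0 ((LieSubmodule.eq_bot_iff _).1 h v hv)

/-- Nonzero root spaces of nonzero roots are lines. -/
theorem finrank_eq_one {χ : H → K} (h : rootSpace H χ ≠ ⊥) (h0 : χ ≠ 0) :
    Module.finrank K (rootSpace H χ : Submodule K L) = 1 :=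
  IsKilling.finrank_rootSpace_eq_one (⟨χ, h⟩ : Weight K H L) (fun h1 => h0 h1)

theorem exists_smul {χ : H → K} (h0 : χ ≠ 0) {v w : L} (hv : v ∈ rootSpace H χ) (hv0 : v ≠ 0)
    (hw : w ∈ rootSpace H χ) : ∃ c : K, w = c • v := by
  have h1 := finrank_eq_one (ne_bot_of_mem hv hv0) h0
  obtain ⟨c, hc⟩ := (finrank_eq_one_iff_of_nonzero' (⟨v, hv⟩ : (rootSpace H χ : Submodule K L))
    (fun h => hv0 (congrArg Subtype.val h))).1 h1 ⟨w, hw⟩
  exact ⟨c, (congrArg Subtype.val hc).symm⟩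

/-- Stability under the Cartan subalgebra and the `e_i`. -/
structure St (W : Submodule K L) : Prop where
  h : ∀ x ∈ H, ∀ w ∈ W, ⁅x, w⁆ ∈ W
  e : ∀ i, ∀ w ∈ W, ⁅b.e i, w⁆ ∈ W

theorem stable_iff (W : Submodule K L) :
    (∀ x ∈ H.toSubmodule ⊔ (b.borelUpper : Submodule K L), ∀ w ∈ W, ⁅x, w⁆ ∈ W) ↔ St b W := by
  constructor
  · intro h
    refine ⟨fun x hx => h x (Submodule.mem_sup_left hx), fun i => h _ (Submodule.mem_sup_right ?_)⟩
    exact LieSubalgebra.subset_lieSpan ⟨i, rfl⟩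
  · intro h x hx
    obtain ⟨y, hy, z, hz, rfl⟩ := Submodule.mem_sup.1 hx
    have hz' : z ∈ LieSubalgebra.lieSpan K L (Set.range b.e) := hz
    have h1 : ∀ w ∈ W, ⁅z, w⁆ ∈ W := by
      clear hx hz
      induction hz' using LieSubalgebra.lieSpan_induction with
      | mem u hu =>
        obtain ⟨i, rfl⟩ := hu
        exact h.e i
      | zero => intro x _; rw [zero_lie]; exact zero_mem _
      | add u v _ _ hu hv => intro x hx; rw [add_lie]; exact add_mem (hu x hx) (hv x hx)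
      | smul t u _ hu => intro x hx; rw [smul_lie]; exact Submodule.smul_mem _ _ (hu x hx)
      | lie u v _ _ hu hv =>
        intro x hx
        rw [lie_lie]
        exact sub_mem (hu _ (hv x hx)) (hv _ (hu x hx))
    intro w hw
    rw [add_lie]
    exact add_mem (h.h y hy w hw) (h1 w hw)

variable {b}

/-- A stable subspace as a module over the Cartan subalgebra. -/
def St.toLie {W : Submodule K L} (hW : St b W) : LieSubmodule K H L :=
  { W with lie_mem := fun {x m} hm => hW.h x.1 x.2 m hm }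

theorem St.mem_toLie {W : Submodule K L} (hW : St b W) (x : L) : x ∈ hW.toLie ↔ x ∈ W := Iff.rfl

/-- If `W ⊄ W₀` for `W` stable, some weight vector of `W` is not in `W₀`. -/
theorem St.exists_weight {W W₀ : Submodule K L} (hW : St b W) (hlt : ¬ W ≤ W₀) :
    ∃ (χ : H → K) (w : L), w ∈ W ∧ w ∈ rootSpace H χ ∧ w ∉ W₀ := by
  by_contra hcon
  push Not at hcon
  apply hlt
  have h1 := eq_iSup_inf_genWeightSpace (K := K) (L := H) (M := L) (N := hW.toLie)
  have h2 : (hW.toLie : Submodule K L) ≤ W₀ := by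
    rw [h1, LieSubmodule.iSup_toSubmodule]
    refine iSup_le fun χ => ?_
    intro x hx
    exact hcon χ x hx.1 hx.2
  exact h2

variable {ρ : Module.Dual K H} (hρ : rootSpace H ρ ≠ ⊥)
  (htop : ∀ i, rootSpace H (⇑ρ + ⇑(b.baseSupp i)) = ⊥)

include htop in
theorem e_top {v : L} (hv : v ∈ rootSpace H ρ) (i : ι) : ⁅b.e i, v⁆ = 0 := by
  have h1 := lie_mem_genWeightSpace_of_mem_genWeightSpace (e_mem b i) hv
  have h2 := htop i
  rw [add_comm] at h1
  change _ ∈ rootSpace H (⇑ρ + ⇑(b.baseSupp i)) at h1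
  rw [h2] at h1
  simpa using h1

include hρ htop

theorem exists_content_top (χ : H → K) (hχ : rootSpace H χ ≠ ⊥) : ∃ n : ι → ℕ, χ = wt b ρ n := by
  obtain ⟨v, hv, hv0⟩ := exists_ne_zero hρ
  exact exists_content b hv (e_top htop hv) hv0 χ hχ

/-- A weight vector killed by all `e_i` lies in the highest root space. -/
theorem eq_top_of_killed {w : L} {χ : H → K} (hw : w ∈ rootSpace H χ) (hw0 : w ≠ 0)
    (he : ∀ i, ⁅b.e i, w⁆ = 0) : χ = ρ := by
  have hχ : rootSpace H χ ≠ ⊥ := by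
    intro h
    rw [h] at hw
    exact hw0 hw
  obtain ⟨n, rfl⟩ := exists_content_top hρ htop χ hχ
  obtain ⟨v, hv, hv0⟩ := exists_ne_zero hρ
  rw [eq_of_highest b hw he hw0 hv (e_top htop hv) hv0]

/-- The extremal vectors of `W` modulo `W₀`. -/
theorem St.exists_extremal {W W₀ : Submodule K L} (hW : St b W) (hlt : ¬ W ≤ W₀) :
    ∃ (χ : H → K) (w : L), w ∈ W ∧ w ∈ rootSpace H χ ∧ w ∉ W₀ ∧ ∀ i, ⁅b.e i, w⁆ ∈ W₀ := by
  classical
  let P : ℕ → Prop := fun N => ∃ (n : ι → ℕ) (w : L), ∑ i, n i = N ∧ w ∈ W ∧ w ∈ rootSpace H (wt b ρ n) ∧ w ∉ W₀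
  have hP : ∃ N, P N := by
    obtain ⟨χ, w, h1, h2, h3⟩ := hW.exists_weight hlt
    have hχ : rootSpace H χ ≠ ⊥ := by
      intro h
      rw [h] at h2
      have h4 : w = 0 := h2
      exact h3 (h4 ▸ zero_mem _)
    obtain ⟨n, rfl⟩ := exists_content_top hρ htop χ hχ
    exact ⟨_, n, w, rfl, h1, h2, h3⟩
  obtain ⟨n, w, hn, h1, h2, h3⟩ := Nat.find_spec hP
  refine ⟨_, w, h1, h2, h3, fun i => ?_⟩
  by_contra hcon
  have h4 := lie_mem_genWeightSpace_of_mem_genWeightSpace (e_mem b i) h2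
  have hχ : rootSpace H (⇑(b.baseSupp i) + ⇑(wt b ρ n)) ≠ ⊥ := by
    intro h
    change _ ∈ rootSpace H (⇑(b.baseSupp i) + ⇑(wt b ρ n)) at h4
    rw [h] at h4
    have h5 : ⁅b.e i, w⁆ = 0 := h4
    exact hcon (h5 ▸ zero_mem _)
  obtain ⟨m, hm⟩ := exists_content_top hρ htop _ hχ
  have hm' : b.baseSupp i + wt b ρ n = wt b ρ m := LinearMap.coe_injective hm
  have h6 : n = m + Pi.single i 1 := by
    have h7 : wt b ρ n = wt b ρ (m + Pi.single i 1) := by
      rw [wt_add_single, ← hm']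
      abel
    rw [wt, wt, sub_right_inj] at h7
    have h8 := Fintype.linearIndependent_iffₛ.mp (b.linearIndependent_baseSupp.restrict_scalars' ℕ) n
      (m + Pi.single i 1) h7
    exact funext h8
  have h9 : ∑ k, m k < Nat.find hP := by
    rw [← hn, h6]
    simp only [Pi.add_apply, Finset.sum_add_distrib, Finset.sum_pi_single', Finset.mem_univ, if_true]
    omega
  refine Nat.find_min hP h9 ⟨m, ⁅b.e i, w⁆, rfl, hW.e i w h1, ?_, hcon⟩
  rw [← hm]
  exact h4

variable {j : ι} (hN : ∀ i, ρ (b.h' i) ≠ 0 ↔ i = j) (hj : ρ (b.h' j) = 1)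

omit hρ htop in
include hj in
theorem rho_ne_zero : (ρ : H → K) ≠ 0 := by
  intro h
  have h1 := congrFun h (b.h' j)
  rw [hj] at h1
  exact one_ne_zero h1

omit hρ htop in
include hj in
theorem sub_j_ne_zero : (⇑ρ - ⇑(b.baseSupp j) : H → K) ≠ 0 := by
  intro h
  have h1 := congrFun h (b.h' j)
  have h2 := A_self b j
  simp [hj, h2] at h1
  norm_num at h1

omit hρ htop in
include hj in
theorem sub_i_ne_zero (i : ι) (hij : i ≠ j) (hi : ρ (b.h' i) = 0) :
    (⇑ρ - ⇑(b.baseSupp i) : H → K) ≠ 0 := by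
  intro h
  have h1 := congrFun h (b.h' i)
  have h2 := A_self b i
  simp [hi, h2] at h1

theorem rho_le {W : Submodule K L} (hW : St b W) (hne : W ≠ ⊥) (h0 : (ρ : H → K) ≠ 0) :
    (rootSpace H ρ : Submodule K L) ≤ W := by
  obtain ⟨χ, w, h1, h2, h3, h4⟩ := hW.exists_extremal hρ htop (W₀ := ⊥) (fun h => hne (le_bot_iff.1 h))
  have hw0 : w ≠ 0 := fun h => h3 (by rw [h]; exact zero_mem _)
  have h5 := eq_top_of_killed hρ htop h2 hw0 (fun i => by simpa using h4 i)
  subst h5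
  intro x hx
  obtain ⟨c, rfl⟩ := exists_smul h0 h2 hw0 hx
  exact Submodule.smul_mem _ _ h1

include hN hj

/-- A weight vector sent into `L_ρ` by all the `e_i` lies in `L_ρ` or `L_{ρ - α_j}`. -/
theorem mem_of_e_mem {w : L} {χ : H → K} (hw : w ∈ rootSpace H χ) (hw0 : w ≠ 0)
    (he : ∀ i, ⁅b.e i, w⁆ ∈ rootSpace H ρ) : χ = ρ ∨ χ = ⇑ρ - ⇑(b.baseSupp j) := by
  by_cases hk : ∀ i, ⁅b.e i, w⁆ = 0
  · exact Or.inl (eq_top_of_killed hρ htop hw hw0 hk)
  · push Not at hk
    obtain ⟨i, hi⟩ := hk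
    have h1 := lie_mem_genWeightSpace_of_mem_genWeightSpace (e_mem b i) hw
    have h2 : (⇑(b.baseSupp i) + χ : H → K) = ρ := by
      by_contra hcon
      have h3 := (iSupIndep_genWeightSpace K H L).pairwiseDisjoint hcon
      have h4 := (LieSubmodule.disjoint_toSubmodule).2 h3
      exact hi (Submodule.disjoint_def.1 h4 _ h1 (he i))
    have h3 : χ = ⇑ρ - ⇑(b.baseSupp i) := by rw [← h2]; abel
    by_cases hij : i = j
    · subst hij
      exact Or.inr h3
    · exfalso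
      have h4 := sub_eq_bot hρ htop hN hij
      rw [← h3] at h4
      exact ne_bot_of_mem hw hw0 h4

/-- The second step. -/
theorem rho_sub_le {W : Submodule K L} (hW : St b W) (hlt : ¬ W ≤ (rootSpace H ρ : Submodule K L)) :
    (rootSpace H (⇑ρ - ⇑(b.baseSupp j)) : Submodule K L) ≤ W := by
  obtain ⟨χ, w, h1, h2, h3, h4⟩ := hW.exists_extremal hρ htop hlt
  have hw0 : w ≠ 0 := fun h => h3 (by rw [h]; exact zero_mem _)
  rcases mem_of_e_mem hρ htop hN hj h2 hw0 h4 with rfl | rfl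
  · exact absurd h2 h3
  · intro x hx
    obtain ⟨c, rfl⟩ := exists_smul (sub_j_ne_zero hj) h2 hw0 hx
    exact Submodule.smul_mem _ _ h1

/-- The third step. -/
theorem exists_third {W : Submodule K L} (hW : St b W)
    (hlt : ¬ W ≤ (rootSpace H ρ : Submodule K L) ⊔ (rootSpace H (⇑ρ - ⇑(b.baseSupp j)) : Submodule K L)) :
    ∃ (i : ι) (w : L), i ≠ j ∧ b.A i j ≠ 0 ∧ w ∈ W ∧
      w ∈ rootSpace H (⇑ρ - ⇑(b.baseSupp j) - ⇑(b.baseSupp i)) ∧ ⁅b.e i, w⁆ ≠ 0 := by
  obtain ⟨χ, w, h1, h2, h3, h4⟩ := hW.exists_extremal hρ htop hlt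
  have hw0 : w ≠ 0 := fun h => h3 (by rw [h]; exact zero_mem _)
  by_cases hk : ∀ i, ⁅b.e i, w⁆ ∈ rootSpace H ρ
  · exfalso
    rcases mem_of_e_mem hρ htop hN hj h2 hw0 hk with rfl | rfl
    · exact h3 (Submodule.mem_sup_left h2)
    · exact h3 (Submodule.mem_sup_right h2)
  · push Not at hk
    obtain ⟨i, hi⟩ := hk
    have h5 := lie_mem_genWeightSpace_of_mem_genWeightSpace (e_mem b i) h2
    have hei : ⁅b.e i, w⁆ ≠ 0 := fun h => hi (by rw [h]; exact zero_mem _)
    have h6 : (⇑(b.baseSupp i) + χ : H → K) = ⇑ρ - ⇑(b.baseSupp j) := by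
      by_contra hcon
      have hne : (⇑(b.baseSupp i) + χ : H → K) ≠ ρ := by
        intro h
        change _ ∈ rootSpace H (⇑(b.baseSupp i) + χ) at h5
        rw [h] at h5
        exact hi h5
      have h7 := (iSupIndep_genWeightSpace K H L).disjoint_biSup_biSup
        (s := {(⇑(b.baseSupp i) + χ : H → K)}) (t := {(ρ : H → K), ⇑ρ - ⇑(b.baseSupp j)}) (by
          rw [Set.disjoint_singleton_left]
          rintro (h | h)
          · exact hne h
          · exact hcon h)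
      rw [iSup_singleton, iSup_pair] at h7
      have h8 := (LieSubmodule.disjoint_toSubmodule).2 h7
      rw [LieSubmodule.sup_toSubmodule] at h8
      exact hei (Submodule.disjoint_def.1 h8 _ h5 (h4 i))
    have h7 : χ = ⇑ρ - ⇑(b.baseSupp j) - ⇑(b.baseSupp i) := by rw [← h6]; abel
    subst h7
    have hij : i ≠ j := by
      rintro rfl
      exact ne_bot_of_mem h2 hw0 (sub_j_j_eq_bot hρ htop hj)
    refine ⟨i, w, hij, fun hA => ?_, h1, h2, hei⟩
    exact ne_bot_of_mem h2 hw0 (sub_sub_eq_bot hρ htop hN hj hij hA)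

end K927.AdjVar
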